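import Groth.Agent.L09.RHomSite.Devissage
import Mathlib.Algebra.Homology.Embedding.AreComplementary

/-!
# Internal derived Hom out of bounded above complexes with presentable cohomology
-/

set_option autoImplicit false
set_option linter.style.haveILetI false
set_option linter.unusedSectionVars false
set_option backward.defeqAttrib.useBackward true
set_option backward.isDefEq.respectTransparency false
set_option backward.isDefEq.respectTransparency.types false

universe v u

open CategoryTheory CategoryTheory.Limits HomologicalComplex CochainComplex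

attribute [local instance] HasDerivedCategory.standard

noncomputable section

namespace Groth.L09.RHomSite

variable {C : Type u} [SmallCategory C] {J : GrothendieckTopology C} {O : Sheaf J CommRingCat.{u}}

/-- Internal derived Hom out of `E` keeps bounded below objects in the class. -/
def Good (P : ModSite.Mod O → Prop) (E : CochainComplex (ModSite.Mod O) ℤ) : Prop :=
  ∀ (r : ℤ) (L : DerivedCategory (ModSite.Mod O)), Bdd P r L → ∀ j, P (HR E L j)

variable {P : ModSite.Mod O → Prop} (hP : Plump P)
include hP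

theorem Good.congr {E E' : CochainComplex (ModSite.Mod O) ℤ} (h : Good P E)
    (e : DerivedCategory.Q.obj E ≅ DerivedCategory.Q.obj E') : Good P E' := fun r L hL j => by
  obtain ⟨t⟩ := nonempty_HR_congr e L j
  exact hP.iso t (h r L hL j)

theorem Good.shift_one {E : CochainComplex (ModSite.Mod O) ℤ} (h : Good P E) : Good P (E⟦(1 : ℤ)⟧) :=
  fun r L hL j => by
    obtain ⟨t⟩ := nonempty_HR_shift' E L j
    exact hP.iso t.symm (h _ _ (hL.shift hP (-1)) j)

theorem Good.of_shift_one {E : CochainComplex (ModSite.Mod O) ℤ} (h : Good P (E⟦(1 : ℤ)⟧)) : Good P E :=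
  fun r L hL j => by
    obtain ⟨t⟩ := nonempty_HR_shift E L j
    exact hP.iso t (h _ _ (hL.shift hP 1) j)

theorem Good.shift {E : CochainComplex (ModSite.Mod O) ℤ} (h : Good P E) (k : ℤ) : Good P (E⟦k⟧) := by
  induction k using Int.induction_on with
  | zero => exact h.congr hP (DerivedCategory.Q.mapIso ((shiftFunctorZero _ ℤ).app E).symm)
  | succ k ih =>
    exact (ih.shift_one hP).congr hP
      (DerivedCategory.Q.mapIso ((CategoryTheory.shiftFunctorAdd' _ (k : ℤ) 1 (k + 1) rfl).app E).symm)
  | pred k ih =>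
    exact (ih.congr hP
      (DerivedCategory.Q.mapIso ((CategoryTheory.shiftFunctorAdd' _ (-(k : ℤ) - 1) 1 (-k) (by omega)).app E))).of_shift_one hP

/-- Good ends give a good middle. -/
theorem good_middle {S : ShortComplex (CochainComplex (ModSite.Mod O) ℤ)} (hS : S.ShortExact)
    (h₁ : Good P S.X₁) (h₃ : Good P S.X₃) : Good P S.X₂ := fun r L hL j => by
  obtain ⟨e⟩ := nonempty_cone_iso hS
  exact mem_five hP _ e L j (h₁ _ _ (hL.shift hP (-1)) j) (h₃ r L hL j) (h₁ r L hL j)
    (hP.kerIn_of_mem (h₃ _ _ (hL.shift hP 1) j))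

/-- A single module in degree `a`. -/
theorem good_of_isGE_of_isLE (E : CochainComplex (ModSite.Mod O) ℤ) (a : ℤ) [E.IsGE a] [E.IsLE a]
    (h : Good P (sgl (E.homology a))) : Good P E := by
  obtain ⟨Y, ⟨e⟩⟩ := DerivedCategory.exists_iso_singleFunctor_obj_of_isGE_of_isLE (DerivedCategory.Q.obj E) a
  have i : E.homology a ≅ Y :=
    ((DerivedCategory.homologyFunctorFactors _ a).app E).symm ≪≫
      (DerivedCategory.homologyFunctor _ a).mapIso e ≪≫
      (DerivedCategory.homologyFunctor _ a).mapIso ((DerivedCategory.singleFunctorIsoCompQ _ a).app Y) ≪≫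
      (DerivedCategory.homologyFunctorFactors _ a).app _ ≪≫ singleObjHomologySelfIso _ a Y
  refine (((h.congr hP (DerivedCategory.Q.mapIso ((single _ (ComplexShape.up ℤ) 0).mapIso i))).shift hP (-a)).congr hP
    (DerivedCategory.Q.mapIso ?_ ≪≫ ((DerivedCategory.singleFunctorIsoCompQ _ a).app Y).symm ≪≫ e.symm))
  exact ((CochainComplex.singleFunctors _).shiftIso (-a) a 0 (by omega)).app Y

/-- Bounded complexes with good cohomology are good. -/
theorem good_of_amp : ∀ (k : ℕ) (E : CochainComplex (ModSite.Mod O) ℤ) (a : ℤ),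
    (∀ i, Good P (sgl (E.homology i))) → E.IsGE a → E.IsLE (a + k) → Good P E := by
  intro k
  induction k with
  | zero =>
    intro E a h hge hle
    haveI : E.IsLE a := by simpa using hle
    exact good_of_isGE_of_isLE hP E a (h a)
  | succ k ih =>
    intro E a h hge hle
    have h₁ : Good P (E.truncLE a) := by
      haveI : (E.truncLE a).IsGE a := by
        rw [CochainComplex.isGE_iff]
        intro i hi
        rw [exactAt_iff_isZero_homology]
        haveI := E.quasiIsoAt_ιTruncLE a i (by omega)
        exact (E.isZero_of_isGE a i hi).of_iso (isoOfQuasiIsoAt (E.ιTruncLE a) i)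
      exact good_of_isGE_of_isLE hP _ a ((h a).congr hP
        (DerivedCategory.Q.mapIso ((single _ _ 0).mapIso (isoOfQuasiIsoAt (E.ιTruncLE a) a).symm)))
    have hT : ∀ i, Good P (sgl ((E.truncGE (a + 1)).homology i)) := fun i => by
      by_cases hi : a + 1 ≤ i
      · haveI := E.quasiIsoAt_πTruncGE (a + 1) i hi
        exact (h i).congr hP (DerivedCategory.Q.mapIso ((single _ _ 0).mapIso (isoOfQuasiIsoAt (E.πTruncGE (a + 1)) i)))
      · have hz := (E.truncGE (a + 1)).isZero_of_isGE (a + 1) i (by omega)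
        have hE : Good P (sgl (E.homology (a - 1))) := h _
        exact hE.congr hP (DerivedCategory.Q.mapIso ((single _ _ 0).mapIso ((E.isZero_of_isGE a (a - 1) (by omega)).iso hz)))
    have hle' : (E.truncGE (a + 1)).IsLE (a + 1 + (k : ℕ)) := by
      rw [CochainComplex.isLE_iff]
      intro i hi
      rw [exactAt_iff_isZero_homology]
      haveI := E.quasiIsoAt_πTruncGE (a + 1) i (by omega)
      exact (E.isZero_of_isLE (a + ((k + 1 : ℕ) : ℤ)) i (by push_cast; omega)).of_iso
        (isoOfQuasiIsoAt (E.πTruncGE (a + 1)) i).symm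
    have hge' : (E.truncGE (a + 1)).IsGE (a + 1) := inferInstance
    have h₂ : Good P (E.truncGE (a + 1)) := ih _ (a + 1) hT hge' hle'
    have hq : IsIso (DerivedCategory.Q.map (E.shortComplexTruncLEX₃ToTruncGE a (a + 1) rfl)) := inferInstance
    have h₃ : Good P (E.shortComplexTruncLE a).X₃ :=
      Good.congr hP h₂ (asIso (DerivedCategory.Q.map (E.shortComplexTruncLEX₃ToTruncGE a (a + 1) rfl))).symm
    exact good_middle hP (S := E.shortComplexTruncLE a) (E.shortComplexTruncLE_shortExact a) h₁ h₃

variable [Quiver.IsThin C] (U : C) (hZ : ∀ M, ZU U M → P M) (Cm : ModSite.Mod O → Prop)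
  (hC : ∀ M, Cm M → ∃ (n : ℕ) (f : (∐ fun _ : ULift.{u} (Fin n) => ModSite.freeOn O U) ⟶ M),
    ZU U (cokernel f) ∧ Cm (kernel f))
include hZ hC

theorem good_sgl {M : ModSite.Mod O} (hM : Cm M) : Good P (sgl M) := fun r L hL j =>
  mem_HR_module U hP hZ Cm hC ((j - r + 1).toNat) M hM r L hL j (by omega)

omit hC in
theorem good_sgl_zero {M : ModSite.Mod O} (hM : IsZero M) : Good P (sgl M) := fun r L _ j =>
  mem_HR_of_zu U hP hZ ((ModSite.restr O U).map_isZero hM) L j

/-- Internal derived Hom out of a bounded above complex with presentable cohomology. -/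
theorem mem_RHom (F : CochainComplex (ModSite.Mod O) ℤ) [ModSite.HasLTensorCx F] [DerComp.HasRHom F]
    (hF : ∀ i, Cm ((DerivedCategory.homologyFunctor (ModSite.Mod O) i).obj (DerivedCategory.Q.obj F))) (m : ℤ)
    [F.IsLE m] (L : DerivedCategory (ModSite.Mod O)) (r : ℤ) (hL : Bdd P r L) (j : ℤ) :
    P ((DerivedCategory.homologyFunctor (ModSite.Mod O) j).obj ((DerComp.RHom F).obj L)) := by
  obtain ⟨n, hn⟩ : ∃ n : ℤ, n = r - j - 1 := ⟨_, rfl⟩
  have hH : ∀ i, Good P (sgl (F.homology i)) := fun i => (good_sgl hP U hZ Cm hC (hF i)).congr hP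
    (DerivedCategory.Q.mapIso ((single _ _ 0).mapIso ((DerivedCategory.homologyFunctorFactors _ i).app F)))
  haveI : (F.truncGE (n + 1)).IsLE (n + 1 + ((m - n).toNat : ℤ)) := by
    rw [CochainComplex.isLE_iff]
    intro i hi
    rw [exactAt_iff_isZero_homology]
    haveI := F.quasiIsoAt_πTruncGE (n + 1) i (by omega)
    exact (F.isZero_of_isLE m i (by omega)).of_iso (isoOfQuasiIsoAt (F.πTruncGE (n + 1)) i).symm
  have hT : ∀ i, Good P (sgl ((F.truncGE (n + 1)).homology i)) := fun i => by
    by_cases hi : n + 1 ≤ i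
    · haveI := F.quasiIsoAt_πTruncGE (n + 1) i hi
      exact (hH i).congr hP (DerivedCategory.Q.mapIso ((single _ _ 0).mapIso (isoOfQuasiIsoAt (F.πTruncGE (n + 1)) i)))
    · exact good_sgl_zero hP U hZ ((F.truncGE (n + 1)).isZero_of_isGE (n + 1) i (by omega))
  have hD := (good_of_amp hP _ _ (n + 1) hT inferInstance ‹_›).congr hP
    (asIso (DerivedCategory.Q.map (F.shortComplexTruncLEX₃ToTruncGE n (n + 1) rfl))).symm
  obtain ⟨e⟩ := nonempty_cone_iso (F.shortComplexTruncLE_shortExact n)
  have low : ∀ (r' : ℤ) (L' : DerivedCategory (ModSite.Mod O)), L'.IsGE r' → j + n < r' →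
      P (HR (F.truncLE n) L' j) := fun r' L' hL' hj => by
    haveI := hasLTensorCx (F.truncLE n)
    haveI := hasRHom (E := F.truncLE n)
    exact hZ _ (zu_RHom_of_bounds U (F.truncLE n) ((DerivedCategory.isLE_Q_obj_iff _ n).2 inferInstance) L' hL' hj)
  exact mem_five hP _ e L j (low _ _ (hL.shift hP (-1)).ge (by omega)) (hD r L hL j) (low r L hL.ge (by omega))
    (hP.kerIn_of_mem (hD _ _ (hL.shift hP 1) j))

end Groth.L09.RHomSite
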