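import Groth.Agent.L09.RHomSite.Free
import Groth.Agent.L04.DerComp.FreeModel
import Groth.Agent.L10.FreeOn

/-!
# Sections of the free module below its subobject
-/

set_option autoImplicit false
set_option linter.style.haveILetI false
set_option linter.unusedSectionVars false
set_option backward.defeqAttrib.useBackward true
set_option backward.isDefEq.respectTransparency false
set_option backward.isDefEq.respectTransparency.types false

universe u

open CategoryTheory CategoryTheory.Limits Opposite

noncomputable section

namespace Groth.L09.RHomSite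

variable {C : Type u} [SmallCategory C] [Quiver.IsThin C] {J : GrothendieckTopology C} (O : Sheaf J CommRingCat.{u})
  (U : C)

/-- The canonical section of the free module. -/
def oneSec : ModSite.sect (ModSite.freeOn O U) U := Groth.L04.DerComp.secM O U _ (𝟙 _)

/-- A morphism out of the free module from a section. -/
def ofSec {M : ModSite.Mod O} (z : ModSite.sect M U) : ModSite.freeOn O U ⟶ M :=
  (Groth.L04.DerComp.secM O U M).symm z

theorem ofSec_oneSec {M : ModSite.Mod O} (z : ModSite.sect M U) : (ofSec O U z).val.app (op U) (oneSec O U) = z :=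
  (Groth.L04.DerComp.secM_comp U (𝟙 _) (ofSec O U z)).symm.trans
    ((congrArg (Groth.L04.DerComp.secM O U M) (Category.id_comp _)).trans (Equiv.apply_symm_apply _ z))

/-- The free module is free on its section below the subobject. -/
theorem bijective_smul_oneSec {W : C} (h : W ⟶ U) :
    Function.Bijective (fun a : (ModSite.ringSh O).obj.obj (op W) =>
      a • (ModSite.freeOn O U).val.map h.op (oneSec O U)) := by
  let η := (ModSite.extZeroAdj O U).unit.app (ModSite.unit (O.over U))
  have hη : IsIso η := isIso_unit O U _
  let T : (Over U)ᵒᵖ := op (Over.mk h)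
  haveI : IsIso (η.val.app T) :=
    ⟨(inv η).val.app T, congrArg (fun t => ((t : ModSite.unit (O.over U) ⟶ _).val.app T)) (IsIso.hom_inv_id η),
      congrArg (fun t : _ ⟶ (ModSite.restr O U).obj (ModSite.freeOn O U) => t.val.app T) (IsIso.inv_hom_id η)⟩
  have hb := ConcreteCategory.bijective_of_isIso (η.val.app T)
  suffices h0 : ∀ a : (ModSite.ringSh O).obj.obj (op W),
      a • (ModSite.freeOn O U).val.map h.op (oneSec O U) = η.val.app T a by
    rw [funext h0]
    exact hb
  intro a
  let N := (ModSite.restr O U).obj (ModSite.freeOn O U)
  let s : N.sections := N.unitHomEquiv ((ModSite.extZeroAdj O U).homEquiv _ _ (𝟙 _))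
  have h1 : (ModSite.freeOn O U).val.map h.op (oneSec O U) = η.val.app T (1 : (ModSite.ringSh O).obj.obj (op W)) := by
    refine Eq.trans ?_ (congrArg (fun t : ModSite.unit (O.over U) ⟶ N => t.val.app T
      (1 : (ModSite.ringSh O).obj.obj (op W))) ((ModSite.extZeroAdj O U).homEquiv_id _))
    exact s.property (Over.homMk h : Over.mk h ⟶ Over.mk (𝟙 U)).op
  show a • (ModSite.freeOn O U).val.map h.op (oneSec O U) = η.val.app T a
  rw [h1]
  refine ((η.val.app T).hom.map_smul a (1 : (ModSite.ringSh O).obj.obj (op W))).symm.trans ?_
  exact congrArg (η.val.app T) (mul_one a)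

end Groth.L09.RHomSite
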