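import Groth.Agent.L09.RHomSite.Five
import Mathlib.Algebra.Homology.DerivedCategory.ExactFunctor
import Mathlib.Algebra.Homology.DerivedCategory.HomologySequence

/-!
# Internal derived Hom out of the free module on a subobject
-/

set_option autoImplicit false
set_option linter.style.haveILetI false
set_option linter.unusedSectionVars false
set_option backward.defeqAttrib.useBackward true
set_option backward.isDefEq.respectTransparency false
set_option backward.isDefEq.respectTransparency.types false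

universe u

open CategoryTheory CategoryTheory.Limits CategoryTheory.Pretriangulated HomologicalComplex

attribute [local instance] HasDerivedCategory.standard

noncomputable section

namespace Groth.L09.RHomSite

open Groth.L15.ModTensor

variable {C : Type u} [SmallCategory C] [Quiver.IsThin C] {J : GrothendieckTopology C} {O : Sheaf J CommRingCat.{u}}
  (U : C)

theorem zu_of_mono {M N : ModSite.Mod O} (f : M ⟶ N) [Mono f] (h : ZU U N) : ZU U M :=
  IsZero.of_mono ((ModSite.restr O U).map f) h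

theorem zu_of_epi {M N : ModSite.Mod O} (f : M ⟶ N) [Epi f] (h : ZU U M) : ZU U N :=
  IsZero.of_epi ((ModSite.restr O U).map f) h

theorem zu_of_exact {S : ShortComplex (ModSite.Mod O)} (hS : S.Exact) (h₁ : ZU U S.X₁) (h₃ : ZU U S.X₃) : ZU U S.X₂ :=
  (hS.map (ModSite.restr O U)).isZero_X₂ (h₁.eq_of_src _ _) (h₃.eq_of_tgt _ _)

variable {P : ModSite.Mod O → Prop} (hP : Plump P) (hZ : ∀ M, ZU U M → P M)
include hP hZ

/-- A map which is invertible over `U` preserves the class. -/
theorem mem_of_zu_ker_coker {A B : ModSite.Mod O} (m : A ⟶ B) (hk : ZU U (kernel m)) (hc : ZU U (cokernel m))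
    (hA : P A) : P B := by
  let S := ShortComplex.mk (Abelian.image.ι m) (cokernel.π m) (kernel.condition _)
  refine hP.ext S { exact := ShortComplex.exact_kernel (cokernel.π m) } ?_ (hZ _ hc)
  exact hP.iso (Abelian.coimageIsoImage m) (hP.coker (kernel.ι m) (hZ _ hk) hA)

omit [Quiver.IsThin C] hP hZ in
theorem exists_mate {L₁ R₁ : DerivedCategory (ModSite.Mod O) ⥤ DerivedCategory (ModSite.Mod O)} (a₁ : L₁ ⊣ R₁)
    (τ : L₁ ⟶ 𝟭 _) (L : DerivedCategory (ModSite.Mod O)) :
    ∃ m : L ⟶ R₁.obj L, ∀ M : DerivedCategory (ModSite.Mod O), IsIso (τ.app M) →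
      Function.Bijective (fun g : M ⟶ L => g ≫ m) := by
  refine ⟨Groth.L29.DC.RHomExact.mate a₁ Adjunction.id τ L, fun M hM => ?_⟩
  refine ((a₁.homEquiv M L).symm.comp_bijective _).1 ?_
  have h : ((a₁.homEquiv M L).symm ∘ fun g : M ⟶ L => g ≫ Groth.L29.DC.RHomExact.mate a₁ Adjunction.id τ L) =
      fun g => τ.app M ≫ g := by
    funext g
    exact (Groth.L29.DC.RHomExact.symm_comp_mate a₁ Adjunction.id τ g).trans
      (congrArg (τ.app M ≫ ·) (show ((Adjunction.id).homEquiv M L).symm g = g by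
        rw [Adjunction.homEquiv_counit]; exact Category.comp_id g))
  rw [h]
  exact Function.bijective_iff_has_inverse.2 ⟨fun g => inv (τ.app M) ≫ g, fun g => by simp, fun g => by simp⟩

omit hP hZ in
/-- The cone of a map bijective on the generators below `U` vanishes over `U`. -/
theorem subsingleton_cone {X Y : DerivedCategory (ModSite.Mod O)} (ψ : X ⟶ Y) {Z : DerivedCategory (ModSite.Mod O)}
    {g : Y ⟶ Z} {δ : Z ⟶ X⟦(1 : ℤ)⟧} (hT : Triangle.mk ψ g δ ∈ distTriang _)
    (h : ∀ (W : C), (W ⟶ U) → ∀ k : ℤ, Function.Bijective (fun x : gen O W k ⟶ X => x ≫ ψ))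
    (W : C) (w : W ⟶ U) (k : ℤ) : Subsingleton (gen O W k ⟶ Z) := by
  refine subsingleton_of_forall_eq 0 fun a => ?_
  let S := (DerivedCategory.singleFunctor (ModSite.Mod O) 0).obj (ModSite.freeOn O W)
  have h1 : a ≫ δ = 0 := by
    let ad := (shiftEquiv (DerivedCategory (ModSite.Mod O)) (1 : ℤ)).symm.toAdjunction
    obtain ⟨z, hz⟩ : ∃ z, (ad.homEquiv (S⟦k⟧) X).symm (a ≫ δ) = z := ⟨_, rfl⟩
    have hzψ : z ≫ ψ = 0 := by
      rw [← hz, ← ad.homEquiv_naturality_right_symm, Category.assoc]
      change (ad.homEquiv (S⟦k⟧) Y).symm (a ≫ δ ≫ ψ⟦(1 : ℤ)⟧') = 0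
      have h31 := comp_distTriang_mor_zero₃₁ _ hT
      change δ ≫ ψ⟦(1 : ℤ)⟧' = 0 at h31
      rw [h31, comp_zero, ad.homEquiv_counit]
      simp
    let sh := (shiftFunctorAdd (DerivedCategory (ModSite.Mod O)) k (-1)).app S
    have hz0 : sh.hom ≫ z = 0 := (h W w (k + -1)).1 (show (sh.hom ≫ z) ≫ ψ = 0 ≫ ψ by
      rw [Category.assoc, hzψ, comp_zero, zero_comp])
    have : z = 0 := by rw [← cancel_epi sh.hom, hz0, comp_zero]
    apply (ad.homEquiv _ _).symm.injective
    rw [hz, this, ad.homEquiv_counit]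
    simp
  obtain ⟨b, rfl⟩ := Triangle.coyoneda_exact₃ _ hT a h1
  obtain ⟨c, rfl⟩ := (h W w k).2 b
  have h12 := comp_distTriang_mor_zero₁₂ _ hT
  change ψ ≫ g = 0 at h12
  change (c ≫ ψ) ≫ g = 0
  rw [Category.assoc, h12, comp_zero]

variable (O) in
/-- The free module on `U` in degree zero. -/
abbrev freeCx : CochainComplex (ModSite.Mod O) ℤ :=
  (single (ModSite.Mod O) (ComplexShape.up ℤ) 0).obj (ModSite.freeOn O U)

variable (O) in
/-- The counit on modules. -/
def τ₀ : tR (ModSite.freeOn O U) ⟶ 𝟭 (ModSite.Mod O) :=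
  (braidIso (ModSite.freeOn O U)).inv ≫ (freeOnTensorIso O U).hom ≫ (ModSite.extZeroAdj O U).counit

omit hP hZ in
theorem exists_tau [ModSite.HasLTensorCx (freeCx O U)] :
    ∃ t : ModSite.LTensorCx (freeCx O U) ⟶ 𝟭 _, ∀ (W : C), (W ⟶ U) → ∀ k : ℤ, IsIso (t.app (gen O W k)) := by
  let G := tR (ModSite.freeOn O U)
  haveI : PreservesFiniteLimits G := (isFlat_freeOn O U).1
  haveI : PreservesFiniteColimits G := (isFlat_freeOn O U).2
  haveI : G.Additive := inferInstance
  let Q := DerivedCategory.Q (C := ModSite.Mod O)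
  let Wq := quasiIso (ModSite.Mod O) (ComplexShape.up ℤ)
  let e' : Q ⋙ G.mapDerivedCategory ≅ ModSite.tensorCxQ (freeCx O U) :=
    G.mapDerivedCategoryFactors ≪≫ Functor.isoWhiskerRight
      (NatIso.ofComponents (fun L => Groth.L15.KFlatSite.singleIso (ModSite.freeOn O U) L)
        (fun f => Groth.L04.AwayTensor.singleIso_natural (ModSite.freeOn O U) f)) Q
  haveI : G.mapDerivedCategory.IsLeftDerivedFunctor e'.hom Wq :=
    Functor.isLeftDerivedFunctor_of_inverts Wq G.mapDerivedCategory e'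
  let η : ModSite.LTensorCx (freeCx O U) ≅ G.mapDerivedCategory :=
    Functor.leftDerivedUnique _ _ (cnt (freeCx O U)) e'.hom Wq
  let τC : G.mapHomologicalComplex (ComplexShape.up ℤ) ⋙ Q ⟶ Q :=
    Functor.whiskerRight (NatTrans.mapHomologicalComplex (τ₀ O U) (ComplexShape.up ℤ) ≫
      (Functor.mapHomologicalComplexIdIso (ModSite.Mod O) (ComplexShape.up ℤ)).hom) Q ≫ (Functor.leftUnitor Q).hom
  letI : Localization.Lifting Q Wq Q (𝟭 _) := ⟨Q.rightUnitor⟩
  let τD : G.mapDerivedCategory ⟶ 𝟭 _ :=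
    Localization.liftNatTrans Q Wq (G.mapHomologicalComplex (ComplexShape.up ℤ) ⋙ Q) Q _ _ τC
  refine ⟨η.hom ≫ τD, fun W w k => ?_⟩
  have h0 : ∀ n, IsIso ((τ₀ O U).app ((genCx O W k).X n)) := fun n => by
    by_cases hn : n + k = 0
    · haveI := isIso_counit_free (J := J) O U w
      haveI : IsIso ((τ₀ O U).app (ModSite.freeOn O W)) := by
        simp only [τ₀, NatTrans.comp_app]; infer_instance
      exact (NatTrans.isIso_app_iff_of_iso (τ₀ O U)
        ((singleObjXSelf (ComplexShape.up ℤ) 0 (ModSite.freeOn O W)).symm ≪≫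
          ((single (ModSite.Mod O) (ComplexShape.up ℤ) 0).obj _).XIsoOfEq hn.symm)).1 inferInstance
    · have hz : IsZero ((genCx O W k).X n) := isZero_single_obj_X (ComplexShape.up ℤ) 0 (ModSite.freeOn O W) (n + k) hn
      exact ⟨0, (G.map_isZero hz).eq_of_src _ _, hz.eq_of_src _ _⟩
  haveI : IsIso (τC.app (genCx O W k)) := by
    haveI : ∀ n, IsIso (((NatTrans.mapHomologicalComplex (τ₀ O U) (ComplexShape.up ℤ)).app (genCx O W k)).f n) := h0
    haveI := HomologicalComplex.Hom.isIso_of_components ((NatTrans.mapHomologicalComplex (τ₀ O U) (ComplexShape.up ℤ)).app (genCx O W k))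
    simp only [τC, NatTrans.comp_app, Functor.whiskerRight_app]
    infer_instance
  haveI : IsIso (τD.app (Q.obj (genCx O W k))) := by
    simp only [τD, Localization.liftNatTrans_app]
    infer_instance
  haveI : IsIso (τD.app (gen O W k)) := (NatTrans.isIso_app_iff_of_iso τD (genIso O W k)).1 inferInstance
  rw [NatTrans.comp_app]
  infer_instance

/-- Internal derived Hom out of the free module on `U` keeps the class. -/
theorem mem_HR_freeCx (L : DerivedCategory (ModSite.Mod O)) (j : ℤ)
    (hL : P ((DerivedCategory.homologyFunctor (ModSite.Mod O) j).obj L)) : P (HR (freeCx O U) L j) := by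
  haveI := hasLTensorCx (freeCx O U)
  haveI := hasRHom (E := freeCx O U)
  obtain ⟨t, ht⟩ := exists_tau (O := O) U
  obtain ⟨m, hm⟩ := exists_mate (DerComp.RHomAdj (freeCx O U)) t L
  obtain ⟨Z, g, δ, hT⟩ := distinguished_cocone_triangle m
  have hz : ∀ i, ZU U ((DerivedCategory.homologyFunctor (ModSite.Mod O) i).obj Z) := fun i =>
    zu_homology U Z i fun W w => subsingleton_cone U m hT (fun V v k => hm _ (ht V v k)) W w _
  let H := DerivedCategory.homologyFunctor (ModSite.Mod O) j
  refine mem_of_zu_ker_coker U hP hZ (H.map m) ?_ ?_ hL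
  · have e := DerivedCategory.HomologySequence.exact₁ _ hT (j - 1) j (by omega)
    let S := ShortComplex.mk _ _ (DerivedCategory.HomologySequence.δ_comp _ hT (j - 1) j (by omega))
    exact @zu_of_epi _ _ _ _ _ U _ _ (kernel.lift S.g S.f S.zero) e.epi_kernelLift (hz _)
  · have e := DerivedCategory.HomologySequence.exact₂ _ hT j
    let S := ShortComplex.mk (H.map m) (H.map g) (by rw [← H.map_comp]; exact (congrArg H.map (comp_distTriang_mor_zero₁₂ _ hT)).trans (H.map_zero _ _))
    exact @zu_of_mono _ _ _ _ _ U _ _ (cokernel.desc S.f S.g S.zero) e.mono_cokernelDesc (hz _)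

end Groth.L09.RHomSite
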