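import Groth.Agent.L09.RHomSite.Vanish

/-!
# Properties of modules which only depend on the restriction to a subobject
-/

set_option autoImplicit false
set_option linter.style.haveILetI false
set_option linter.unusedSectionVars false
set_option backward.isDefEq.respectTransparency false
set_option backward.isDefEq.respectTransparency.types false

universe v u

open CategoryTheory CategoryTheory.Limits

noncomputable section

namespace Groth.L09.RHomSite

/-- A class of objects closed under kernels, cokernels and extensions. -/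
structure Plump {A : Type u} [Category.{v} A] [Abelian A] (P : A → Prop) : Prop where
  iso : ∀ {M N : A}, (M ≅ N) → P M → P N
  ker : ∀ {M N : A} (f : M ⟶ N), P M → P N → P (kernel f)
  coker : ∀ {M N : A} (f : M ⟶ N), P M → P N → P (cokernel f)
  ext : ∀ S : ShortComplex A, S.ShortExact → P S.X₁ → P S.X₃ → P S.X₂

variable {A : Type u} [Category.{v} A] [Abelian A] {P : A → Prop} (hP : Plump P)

/-- The target of a map whose kernels from the class stay in the class. -/
def KerIn (P : A → Prop) (B : A) : Prop := ∀ ⦃M : A⦄ (φ : M ⟶ B), P M → P (kernel φ)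

theorem Plump.kerIn_of_mem (hP : Plump P) {B : A} (hB : P B) : KerIn P B := fun _ φ h => hP.ker φ h hB

theorem KerIn.of_iso (hP : Plump P) {B B' : A} (e : B ≅ B') (h : KerIn P B) : KerIn P B' := fun _ φ hM =>
  hP.iso (kernelCompMono φ e.inv) (h (φ ≫ e.inv) hM)

variable {A₀ A₁ A₂ A₃ A₄ : A} (f₀ : A₀ ⟶ A₁) (f₁ : A₁ ⟶ A₂) (f₂ : A₂ ⟶ A₃) (f₃ : A₃ ⟶ A₄)
  (w₁ : f₀ ≫ f₁ = 0) (w₂ : f₁ ≫ f₂ = 0) (w₃ : f₂ ≫ f₃ = 0)
  (e₁ : (ShortComplex.mk f₀ f₁ w₁).Exact) (e₂ : (ShortComplex.mk f₁ f₂ w₂).Exact)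

include hP e₁ e₂

/-- The middle of an exact sequence has its kernels in the class. -/
theorem Plump.kerIn_middle (h₀ : P A₀) (h₁ : P A₁) (h₃ : KerIn P A₃) : KerIn P A₂ := fun M φ hM => by
  let c := cokernel.desc f₀ f₁ w₁
  haveI : Mono c := e₁.mono_cokernelDesc
  have hc : P (cokernel f₀) := hP.coker f₀ h₀ h₁
  have wc : c ≫ f₂ = 0 := by rw [← cancel_epi (cokernel.π f₀), ← Category.assoc, cokernel.π_desc, w₂, comp_zero]
  have hcE : (ShortComplex.mk c f₂ wc).Exact := by
    refine (ShortComplex.exact_iff_of_epi_of_isIso_of_mono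
      (S₁ := ShortComplex.mk f₁ f₂ w₂) (S₂ := ShortComplex.mk c f₂ wc)
      { τ₁ := cokernel.π f₀, τ₂ := 𝟙 _, τ₃ := 𝟙 _,
        comm₁₂ := by simp [c], comm₂₃ := by simp }).1 e₂
  let ι := kernel.ι (φ ≫ f₂)
  have hl : ι ≫ φ ≫ f₂ = 0 := kernel.condition _
  let ψ := hcE.lift (ι ≫ φ) (by rw [Category.assoc]; exact hl)
  have hψ : ψ ≫ c = ι ≫ φ := hcE.lift_f _ _
  refine hP.iso ?_ (hP.ker ψ (h₃ (φ ≫ f₂) hM) hc)
  exact
    { hom := kernel.lift φ (kernel.ι ψ ≫ ι) (by rw [Category.assoc, ← hψ, kernel.condition_assoc, zero_comp])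
      inv := kernel.lift ψ (kernel.lift (φ ≫ f₂) (kernel.ι φ) ((kernel.condition_assoc φ f₂).trans zero_comp))
        (by rw [← cancel_mono c, Category.assoc, hψ]; simp [ι])
      hom_inv_id := by
        rw [← cancel_mono (kernel.ι ψ), ← cancel_mono ι]
        simp [ι]
      inv_hom_id := by
        rw [← cancel_mono (kernel.ι φ)]
        simp [ι] }

variable (e₃ : (ShortComplex.mk f₂ f₃ w₃).Exact)
include e₃

/-- The middle of an exact sequence. -/
theorem Plump.middle (h₀ : P A₀) (h₁ : P A₁) (h₃ : P A₃) (h₄ : KerIn P A₄) : P A₂ :=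
  hP.ext _ (Groth.L29.DC.RHomExact.shortExact_middle f₀ f₁ f₂ f₃ w₁ w₂ w₃ e₁ e₂ e₃)
    (hP.coker f₀ h₀ h₁) (h₄ f₃ h₃)

end Groth.L09.RHomSite
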