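import Groth.Agent.L09.RHomSite.Base
import Mathlib.Algebra.Homology.DerivedCategory.ShortExact
import Mathlib.Algebra.Homology.Embedding.CochainComplex

/-!
# Internal derived Hom out of bounded above objects with presentable cohomology
-/

set_option autoImplicit false
set_option linter.style.haveILetI false
set_option linter.unusedSectionVars false
set_option backward.defeqAttrib.useBackward true
set_option backward.isDefEq.respectTransparency false
set_option backward.isDefEq.respectTransparency.types false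

universe v u

open CategoryTheory CategoryTheory.Limits HomologicalComplex CochainComplex

attribute [local instance] HasDerivedCategory.standard

noncomputable section

namespace Groth.L09.RHomSite

/-- Properties closed under sums of two objects hold for finite coproducts. -/
theorem finCoprod_induction {A : Type*} [Category A] [Abelian A] (P : A → Prop)
    (hiso : ∀ {M N : A}, P M → (M ≅ N) → P N) (hzero : ∀ M : A, IsZero M → P M)
    (hbi : ∀ M N : A, P M → P N → P (M ⊞ N)) (α : Type v) [Finite α] :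
    ∀ (f : α → A) [HasCoproduct f], (∀ a, P (f a)) → P (∐ f) := by
  refine Finite.induction_empty_option (P := fun α => ∀ (f : α → A) [HasCoproduct f], (∀ a, P (f a)) → P (∐ f))
    ?_ ?_ ?_ α
  · intro α β e ih f _ hf
    haveI : HasCoproduct (fun x => f (e x)) := hasCoproduct_of_equiv_of_iso f (fun x => f (e x)) e fun _ => Iso.refl _
    exact hiso (ih (fun x => f (e x)) fun a => hf _) (Sigma.whiskerEquiv e fun _ => Iso.refl _)
  · intro f _ _
    exact hzero _ ((IsZero.iff_id_eq_zero _).2 (Sigma.hom_ext _ _ fun a => a.elim))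
  · intro α _ ih f _ hf
    haveI : Finite α := Finite.of_fintype α
    refine hiso (hbi _ _ (ih (fun a => f (some a)) fun a => hf _) (hf none))
      { hom := biprod.desc (Sigma.desc fun a => Sigma.ι f (some a)) (Sigma.ι f none)
        inv := Sigma.desc fun a => match a with
          | none => biprod.inr
          | some a => Sigma.ι (fun a => f (some a)) a ≫ biprod.inl
        hom_inv_id := ?_, inv_hom_id := ?_ }
    · refine biprod.hom_ext' _ _ ?_ ?_
      · refine Sigma.hom_ext _ _ fun a => ?_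
        simp
      · simp
    · refine Sigma.hom_ext _ _ fun a => ?_
      rcases a with _ | a <;> simp

variable {C : Type u} [SmallCategory C] {J : GrothendieckTopology C} {O : Sheaf J CommRingCat.{u}}

/-- A module in degree zero. -/
abbrev sgl (M : ModSite.Mod O) : CochainComplex (ModSite.Mod O) ℤ :=
  (single (ModSite.Mod O) (ComplexShape.up ℤ) 0).obj M

/-- Bounded below with cohomology in the class. -/
structure Bdd (P : ModSite.Mod O → Prop) (r : ℤ) (L : DerivedCategory (ModSite.Mod O)) : Prop where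
  ge : L.IsGE r
  mem : ∀ i, P ((DerivedCategory.homologyFunctor (ModSite.Mod O) i).obj L)

theorem Bdd.shift {P : ModSite.Mod O → Prop} (hP : Plump P) {r : ℤ} {L : DerivedCategory (ModSite.Mod O)}
    (h : Bdd P r L) (d : ℤ) : Bdd P (r - d) (L⟦d⟧) :=
  ⟨haveI : DerivedCategory.TStructure.t.IsGE L r := h.ge; DerivedCategory.TStructure.t.isGE_shift L r d (r - d) (by omega),
    fun i => hP.iso (((DerivedCategory.homologyFunctor _ 0).shiftIso d i (d + i) rfl).app L).symm (h.mem (d + i))⟩

section Seq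

variable {P : ModSite.Mod O → Prop} (hP : Plump P)

theorem nonempty_HR_congr {E E' : CochainComplex (ModSite.Mod O) ℤ}
    (e : DerivedCategory.Q.obj E ≅ DerivedCategory.Q.obj E') (L : DerivedCategory (ModSite.Mod O)) (j : ℤ) :
    Nonempty (HR E L j ≅ HR E' L j) := by
  obtain ⟨t⟩ := nonempty_RH_iso e
  exact ⟨(DerivedCategory.homologyFunctor _ j).mapIso (t.app L)⟩

theorem nonempty_HR_shift (E : CochainComplex (ModSite.Mod O) ℤ) (L : DerivedCategory (ModSite.Mod O)) (j : ℤ) :
    Nonempty (HR (E⟦(1 : ℤ)⟧) (L⟦(1 : ℤ)⟧) j ≅ HR E L j) := by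
  obtain ⟨t⟩ := nonempty_RH_shift E L
  exact ⟨(DerivedCategory.homologyFunctor _ j).mapIso t.symm⟩

theorem nonempty_HR_shift' (E : CochainComplex (ModSite.Mod O) ℤ) (L : DerivedCategory (ModSite.Mod O)) (j : ℤ) :
    Nonempty (HR (E⟦(1 : ℤ)⟧) L j ≅ HR E (L⟦(-1 : ℤ)⟧) j) := by
  obtain ⟨t⟩ := nonempty_HR_shift E (L⟦(-1 : ℤ)⟧) j
  exact ⟨(DerivedCategory.homologyFunctor _ j).mapIso ((RH (E⟦(1 : ℤ)⟧)).mapIso
    ((shiftEquiv' (DerivedCategory (ModSite.Mod O)) (-1 : ℤ) 1 (by omega)).unitIso.app L)) ≪≫ t⟩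

include hP

variable {R B D : CochainComplex (ModSite.Mod O) ℤ} (g : R ⟶ B)
  (e : DerivedCategory.Q.obj (mappingCone g) ≅ DerivedCategory.Q.obj D) (L : DerivedCategory (ModSite.Mod O)) (j : ℤ)

include e in
/-- The middle of the sequence of `g : R ⟶ B` has its kernels in the class. -/
theorem kerIn_five (h₀ : P (HR R (L⟦(-1 : ℤ)⟧) j)) (h₁ : P (HR D L j)) (h₃ : KerIn P (HR R L j)) :
    KerIn P (HR B L j) := by
  obtain ⟨f₀, f₁, f₂, f₃, w₁, w₂, w₃, e₁, e₂, -⟩ := exists_five g L j
  obtain ⟨a⟩ := nonempty_HR_shift' R L j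
  obtain ⟨b⟩ := nonempty_HR_congr e L j
  obtain ⟨c⟩ := nonempty_HR_shift R L j
  exact hP.kerIn_middle f₀ f₁ f₂ w₁ w₂ e₁ e₂ (hP.iso a.symm h₀) (hP.iso b.symm h₁) (h₃.of_iso hP c.symm)

include e in
/-- The middle of the sequence of `g : R ⟶ B` is in the class. -/
theorem mem_five (h₀ : P (HR R (L⟦(-1 : ℤ)⟧) j)) (h₁ : P (HR D L j)) (h₃ : P (HR R L j))
    (h₄ : KerIn P (HR D (L⟦(1 : ℤ)⟧) j)) : P (HR B L j) := by
  obtain ⟨f₀, f₁, f₂, f₃, w₁, w₂, w₃, e₁, e₂, e₃⟩ := exists_five g L j
  obtain ⟨a⟩ := nonempty_HR_shift' R L j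
  obtain ⟨b⟩ := nonempty_HR_congr e L j
  obtain ⟨c⟩ := nonempty_HR_shift R L j
  obtain ⟨d⟩ := nonempty_HR_congr e (L⟦(1 : ℤ)⟧) j
  exact hP.middle f₀ f₁ f₂ f₃ w₁ w₂ w₃ e₁ e₂ e₃ (hP.iso a.symm h₀) (hP.iso b.symm h₁) (hP.iso c.symm h₃)
    (h₄.of_iso hP d.symm)

end Seq

theorem single_shortExact {S : ShortComplex (ModSite.Mod O)} (hS : S.ShortExact) :
    (S.map (single (ModSite.Mod O) (ComplexShape.up ℤ) 0)).ShortExact := by
  refine HomologicalComplex.shortExact_of_degreewise_shortExact _ fun n => ?_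
  by_cases hn : n = 0
  · subst hn
    refine (ShortComplex.shortExact_iff_of_iso ?_).2 hS
    exact ShortComplex.isoMk (singleObjXSelf (ComplexShape.up ℤ) 0 S.X₁) (singleObjXSelf (ComplexShape.up ℤ) 0 S.X₂)
      (singleObjXSelf (ComplexShape.up ℤ) 0 S.X₃) (by simp [single_map_f_self]) (by simp [single_map_f_self])
  · exact { exact := ShortComplex.exact_of_isZero_X₂ _ (isZero_single_obj_X (ComplexShape.up ℤ) 0 _ n hn)
            mono_f := ⟨fun a b _ => (isZero_single_obj_X (ComplexShape.up ℤ) 0 _ n hn).eq_of_tgt _ _⟩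
            epi_g := ⟨fun a b _ => (isZero_single_obj_X (ComplexShape.up ℤ) 0 _ n hn).eq_of_src _ _⟩ }

/-- The cone of a short exact sequence. -/
theorem nonempty_cone_iso {S : ShortComplex (CochainComplex (ModSite.Mod O) ℤ)} (hS : S.ShortExact) :
    Nonempty (DerivedCategory.Q.obj (mappingCone S.f) ≅ DerivedCategory.Q.obj S.X₃) :=
  haveI := mappingCone.quasiIso_descShortComplex hS
  ⟨asIso (DerivedCategory.Q.map (mappingCone.descShortComplex S))⟩

/-- The cone of `S.X₂ ⟶ cone S.f`. -/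
theorem nonempty_cone_inr_iso {S : ShortComplex (CochainComplex (ModSite.Mod O) ℤ)} :
    Nonempty (DerivedCategory.Q.obj (mappingCone (mappingCone.inr S.f)) ≅ DerivedCategory.Q.obj (S.X₁⟦(1 : ℤ)⟧)) :=
  haveI : QuasiIso (mappingCone.rotateHomotopyEquiv S.f).hom := inferInstance
  ⟨(asIso (DerivedCategory.Q.map (mappingCone.rotateHomotopyEquiv S.f).hom)).symm⟩

theorem kernel_ι_comp_factorThruImage {M N : ModSite.Mod O} (f : M ⟶ N) :
    kernel.ι f ≫ Abelian.factorThruImage f = 0 := by
  rw [← cancel_mono (Abelian.image.ι f), Category.assoc, Abelian.image.fac, kernel.condition, zero_comp]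

/-- The kernel, the source and the image of a map. -/
theorem image_shortExact {M N : ModSite.Mod O} (f : M ⟶ N) :
    (ShortComplex.mk (kernel.ι f) (Abelian.factorThruImage f) (kernel_ι_comp_factorThruImage f)).ShortExact := by
  let S₁ := ShortComplex.mk (kernel.ι f) (Abelian.factorThruImage f) (kernel_ι_comp_factorThruImage f)
  let S₂ := ShortComplex.mk (kernel.ι f) f (kernel.condition _)
  let φ : S₁ ⟶ S₂ := { τ₁ := 𝟙 _, τ₂ := 𝟙 _, τ₃ := Abelian.image.ι f }
  haveI : Epi φ.τ₁ := inferInstanceAs (Epi (𝟙 _))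
  haveI : IsIso φ.τ₂ := inferInstanceAs (IsIso (𝟙 _))
  haveI : Mono φ.τ₃ := inferInstanceAs (Mono (Abelian.image.ι f))
  exact { exact := (ShortComplex.exact_iff_of_epi_of_isIso_of_mono φ).2 (ShortComplex.exact_kernel f) }

/-- The image, the target and the cokernel of a map. -/
theorem coker_shortExact {M N : ModSite.Mod O} (f : M ⟶ N) :
    (ShortComplex.mk (Abelian.image.ι f) (cokernel.π f) (kernel.condition _)).ShortExact :=
  { exact := ShortComplex.exact_kernel (cokernel.π f) }

variable [Quiver.IsThin C] (U : C) {P : ModSite.Mod O → Prop} (hP : Plump P) (hZ : ∀ M, ZU U M → P M)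
include hP hZ

theorem mem_HR_of_zu {M : ModSite.Mod O} (hM : ZU U M) (L : DerivedCategory (ModSite.Mod O)) (j : ℤ) :
    P (HR (sgl M) L j) := by
  haveI := hasLTensorCx (sgl M)
  haveI := hasRHom (E := sgl M)
  refine hZ _ (zu_RHom_of_zu U (sgl M) (fun i => ?_) L j)
  by_cases hi : i = 0
  · subst hi
    exact IsZero.of_iso hM ((ModSite.restr O U).mapIso (singleObjHomologySelfIso (ComplexShape.up ℤ) 0 M))
  · exact (ModSite.restr O U).map_isZero ((exactAt_iff_isZero_homology _ _).1
      (exactAt_single_obj (ComplexShape.up ℤ) 0 M i hi))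

theorem mem_HR_low {M : ModSite.Mod O} {r : ℤ} {L : DerivedCategory (ModSite.Mod O)} (hL : L.IsGE r) {j : ℤ}
    (hj : j < r) : P (HR (sgl M) L j) := by
  haveI := hasLTensorCx (sgl M)
  haveI := hasRHom (E := sgl M)
  haveI : (DerivedCategory.Q.obj (sgl M)).IsLE 0 := (DerivedCategory.isLE_Q_obj_iff _ 0).2 inferInstance
  exact hZ _ (zu_RHom_of_bounds U (sgl M) ‹_› L hL (by omega))

/-- Finite sums of the free module on `U`. -/
theorem mem_HR_free (n : ℕ) {r : ℤ} {L : DerivedCategory (ModSite.Mod O)} (hL : Bdd P r L) (j : ℤ) :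
    P (HR (sgl (∐ fun _ : ULift.{u} (Fin n) => ModSite.freeOn O U)) L j) := by
  refine finCoprod_induction (fun M => ∀ r L, Bdd P r L → ∀ j, P (HR (sgl M) L j)) ?_ ?_ ?_ _ _ ?_ r L hL j
  · intro M N hM e r L hL j
    obtain ⟨t⟩ := nonempty_HR_congr (DerivedCategory.Q.mapIso ((single _ (ComplexShape.up ℤ) 0).mapIso e)) L j
    exact hP.iso t (hM r L hL j)
  · intro M hM r L _ j
    exact mem_HR_of_zu U hP hZ ((ModSite.restr O U).map_isZero hM) L j
  · intro M N hM hN r L hL j
    let S := ShortComplex.mk (biprod.inl : M ⟶ M ⊞ N) biprod.snd (by simp)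
    have hS : S.ShortExact := ({ r := biprod.fst, s := biprod.inr } : S.Splitting).shortExact
    obtain ⟨e⟩ := nonempty_cone_iso (single_shortExact hS)
    exact mem_five hP _ e L j (hM _ _ (hL.shift hP (-1)) j) (hN r L hL j) (hM r L hL j)
      (hP.kerIn_of_mem (hN _ _ (hL.shift hP 1) j))
  · intro _ r L hL j
    exact mem_HR_freeCx U hP hZ L j (hL.mem j)

variable (Cm : ModSite.Mod O → Prop)
  (hC : ∀ M, Cm M → ∃ (n : ℕ) (f : (∐ fun _ : ULift.{u} (Fin n) => ModSite.freeOn O U) ⟶ M),
    ZU U (cokernel f) ∧ Cm (kernel f))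
include hC

/-- Internal derived Hom out of a presentable module. -/
theorem mem_HR_module : ∀ (p : ℕ) (M : ModSite.Mod O), Cm M → ∀ (r : ℤ) (L : DerivedCategory (ModSite.Mod O)),
    Bdd P r L → ∀ j, j < r + p → P (HR (sgl M) L j) := by
  intro p
  induction p with
  | zero => exact fun M _ r L hL j hj => mem_HR_low U hP hZ hL.ge (by simpa using hj)
  | succ p ih =>
    have image : ∀ M, Cm M → ∀ (r : ℤ) (L : DerivedCategory (ModSite.Mod O)), Bdd P r L → ∀ j, j < r + p + 1 →
        ∀ Q : ModSite.Mod O → Prop, (∀ (n : ℕ) (f : (∐ fun _ : ULift.{u} (Fin n) => ModSite.freeOn O U) ⟶ M),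
          ZU U (cokernel f) → Cm (kernel f) →
          P (HR (sgl (Abelian.image f)) (L⟦(-1 : ℤ)⟧) j) → P (HR (sgl (kernel f)) (L⟦(-1 : ℤ)⟧) j) →
          Q (HR (sgl M) L j)) → Q (HR (sgl M) L j) := by
      intro M hM r L hL j hj Q hQ
      obtain ⟨n, f, hf, hK⟩ := hC M hM
      refine hQ n f hf hK ?_ (ih _ hK _ _ (hL.shift hP (-1)) j (by omega))
      have hS := coker_shortExact f
      obtain ⟨e⟩ := nonempty_cone_iso (single_shortExact hS)
      have hKf := image_shortExact f
      obtain ⟨e'⟩ := nonempty_cone_iso (single_shortExact hKf)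
      obtain ⟨e''⟩ := nonempty_cone_inr_iso (S := (ShortComplex.mk (kernel.ι f) (Abelian.factorThruImage f) (kernel_ι_comp_factorThruImage f)).map
        (single (ModSite.Mod O) (ComplexShape.up ℤ) 0))
      obtain ⟨t⟩ := nonempty_HR_congr e' (L⟦(-1 : ℤ)⟧) j
      have h1 := hL.shift hP (-1)
      obtain ⟨s⟩ := nonempty_HR_shift' (sgl (kernel f)) (L⟦(-1 : ℤ)⟧) j
      obtain ⟨s'⟩ := nonempty_HR_shift (sgl (kernel f)) (L⟦(-1 : ℤ)⟧) j
      exact hP.iso t (mem_five hP _ e'' _ j (mem_HR_free U hP hZ n (h1.shift hP (-1)) j)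
        (hP.iso s.symm (ih _ hK _ _ (h1.shift hP (-1)) j (by omega))) (mem_HR_free U hP hZ n h1 j)
        ((hP.kerIn_of_mem (ih _ hK _ _ h1 j (by omega))).of_iso hP s'.symm))
    have ker : ∀ M, Cm M → ∀ (r : ℤ) (L : DerivedCategory (ModSite.Mod O)), Bdd P r L → ∀ j, j < r + p + 1 →
        KerIn P (HR (sgl M) L j) := by
      intro M hM r L hL j hj
      refine image M hM r L hL j hj (KerIn P) fun n f hf hK hI hKm => ?_
      have hS := coker_shortExact f
      obtain ⟨e⟩ := nonempty_cone_iso (single_shortExact hS)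
      refine kerIn_five hP _ e L j hI (mem_HR_of_zu U hP hZ hf L j) ?_
      have hKf := image_shortExact f
      obtain ⟨e'⟩ := nonempty_cone_iso (single_shortExact hKf)
      obtain ⟨e''⟩ := nonempty_cone_inr_iso (S := (ShortComplex.mk (kernel.ι f) (Abelian.factorThruImage f) (kernel_ι_comp_factorThruImage f)).map
        (single (ModSite.Mod O) (ComplexShape.up ℤ) 0))
      obtain ⟨t⟩ := nonempty_HR_congr e' L j
      obtain ⟨s⟩ := nonempty_HR_shift' (sgl (kernel f)) L j
      exact (kerIn_five hP _ e'' L j (mem_HR_free U hP hZ n (hL.shift hP (-1)) j) (hP.iso s.symm hKm)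
        (hP.kerIn_of_mem (mem_HR_free U hP hZ n hL j))).of_iso hP t
    intro M hM r L hL j hj
    have hj' : j < r + p + 1 := by omega
    refine image M hM r L hL j hj' P fun n f hf hK hI hKm => ?_
    have hS := coker_shortExact f
    obtain ⟨e⟩ := nonempty_cone_iso (single_shortExact hS)
    refine mem_five hP _ e L j hI (mem_HR_of_zu U hP hZ hf L j) ?_ (hP.kerIn_of_mem (mem_HR_of_zu U hP hZ hf _ j))
    have hKf := image_shortExact f
    obtain ⟨e'⟩ := nonempty_cone_iso (single_shortExact hKf)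
    obtain ⟨e''⟩ := nonempty_cone_inr_iso (S := (ShortComplex.mk (kernel.ι f) (Abelian.factorThruImage f) (kernel_ι_comp_factorThruImage f)).map
      (single (ModSite.Mod O) (ComplexShape.up ℤ) 0))
    obtain ⟨t⟩ := nonempty_HR_congr e' L j
    obtain ⟨s⟩ := nonempty_HR_shift' (sgl (kernel f)) L j
    obtain ⟨s'⟩ := nonempty_HR_shift (sgl (kernel f)) L j
    exact hP.iso t (mem_five hP _ e'' L j (mem_HR_free U hP hZ n (hL.shift hP (-1)) j) (hP.iso s.symm hKm)
      (mem_HR_free U hP hZ n hL j) ((ker _ hK r L hL j hj').of_iso hP s'.symm))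

end Groth.L09.RHomSite
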