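import Groth.Agent.L04.DerComp.SiteLTensor
import Groth.Agent.L15.KFlatSite.Assoc
import Groth.Agent.L29.DCoh.DerRight
import Groth.Agent.L10.KInjDerived
import Groth.Agent.L10.SheafModGroth
import Groth.Prelude.Def_DerComp
import Groth.Prelude.Def_KFlatSite
import Mathlib.CategoryTheory.Abelian.GrothendieckCategory.EnoughInjectives
import Mathlib.CategoryTheory.Adjunction.AdjointFunctorTheorems

/-!
# Internal derived Hom on ringed sites: existence and functoriality in the first variable
-/

set_option autoImplicit false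
set_option linter.style.haveILetI false
set_option linter.unusedSectionVars false
set_option backward.defeqAttrib.useBackward true
set_option backward.isDefEq.respectTransparency false
set_option backward.isDefEq.respectTransparency.types false

universe u

open CategoryTheory CategoryTheory.Limits HomologicalComplex

attribute [local instance] HasDerivedCategory.standard

noncomputable section

namespace Groth.L09.RHomSite

open Groth.L00 Groth.L15.KFlatSite

variable {C : Type u} [SmallCategory C] {J : GrothendieckTopology C} {O : Sheaf J CommRingCat.{u}}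

theorem enoughKInj : Groth.L10.KInjDerived.EnoughKInjectives (ModSite.Mod O) := by
  haveI := Groth.L10.shMod_isGrothendieckAbelian (ModSite.ringSh O)
  infer_instance

/-- Tensoring on the right by a complex. -/
abbrev flipT (E : CochainComplex (ModSite.Mod O) ℤ) :
    CochainComplex (ModSite.Mod O) ℤ ⥤ CochainComplex (ModSite.Mod O) ℤ :=
  (ModSite.tensorCx O).flip.obj E

/-- `- ⊗ E ≅ E ⊗ -`. -/
def flipIso (E : CochainComplex (ModSite.Mod O) ℤ) : T E ≅ flipT E :=
  NatIso.ofComponents (fun L => commIso L E) (fun a => commIso_natural a E)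

theorem exists_retraction (E : CochainComplex (ModSite.Mod O) ℤ) {A B : CochainComplex (ModSite.Mod O) ℤ} (ι : A ⟶ B)
    (r : ∀ n, B.X n ⟶ A.X n) (hr : ∀ n, ι.f n ≫ r n = 𝟙 _) :
    ∃ r' : ∀ n, ((flipT E).obj B).X n ⟶ ((flipT E).obj A).X n, ∀ n, ((flipT E).map ι).f n ≫ r' n = 𝟙 _ := by
  let F := ModSite.tensorBi O
  let ρ : ∀ n, ((T E).obj B).X n ⟶ ((T E).obj A).X n := fun n =>
    HomologicalComplex.mapBifunctorDesc fun p q h =>
      (F.obj (E.X p)).map (r q) ≫ HomologicalComplex.ιMapBifunctor E A F (ComplexShape.up ℤ) p q n h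
  have hρ : ∀ n, ((T E).map ι).f n ≫ ρ n = 𝟙 _ := fun n => by
    refine HomologicalComplex.mapBifunctor.hom_ext fun p q h => ?_
    rw [BifExact.ι_T_map_assoc, HomologicalComplex.ι_mapBifunctorDesc, ← Category.assoc, ← Functor.map_comp,
      hr, CategoryTheory.Functor.map_id, Category.id_comp]
    exact (Category.comp_id _).symm
  refine ⟨fun n => ((flipIso E).inv.app B).f n ≫ ρ n ≫ ((flipIso E).hom.app A).f n, fun n => ?_⟩
  have h : (flipT E).map ι ≫ (flipIso E).inv.app B = (flipIso E).inv.app A ≫ (T E).map ι :=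
    (flipIso E).inv.naturality ι
  rw [← Category.assoc, ← HomologicalComplex.comp_f, h, HomologicalComplex.comp_f, Category.assoc,
    reassoc_of% (hρ n), ← HomologicalComplex.comp_f, Iso.inv_hom_id_app, HomologicalComplex.id_f]

theorem isLeftAdjoint_flipT (E : CochainComplex (ModSite.Mod O) ℤ) : (flipT E).IsLeftAdjoint := by
  haveI := Groth.L10.shMod_isGrothendieckAbelian (ModSite.ringSh O)
  haveI : IsGrothendieckAbelian.{u} (CochainComplex (ModSite.Mod O) ℤ) := inferInstance
  haveI : WellPowered.{u} (CochainComplex (ModSite.Mod O) ℤ) := IsGrothendieckAbelian.wellPowered _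
  haveI : WellPowered.{u} (CochainComplex (ModSite.Mod O) ℤ)ᵒᵖ := CategoryTheory.Abelian.wellPowered_opposite
  haveI : ∀ p, PreservesColimitsOfSize.{u, u} ((ModSite.tensorBi O).obj (E.X p)) := fun p =>
    inferInstance
  haveI : PreservesColimitsOfSize.{u, u} (T E) := ⟨fun {J} _ => inferInstance⟩
  haveI : PreservesColimitsOfSize.{u, u} (flipT E) := preservesColimits_of_natIso (flipIso E)
  exact isLeftAdjoint_of_preservesColimits_of_isSeparating
    (isSeparator_separator (CochainComplex (ModSite.Mod O) ℤ)) _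

theorem acyclic_flipT {E : CochainComplex (ModSite.Mod O) ℤ} (hE : ModSite.IsKFlat E)
    (P : CochainComplex (ModSite.Mod O) ℤ) (hP : P.Acyclic) : HomologicalComplex.Acyclic ((flipT E).obj P) := fun i =>
  (HomologicalComplex.exactAt_iff_isZero_homology _ _).2
    (hE P (fun j => (HomologicalComplex.exactAt_iff_isZero_homology _ _).1 (hP j)) i)

/-- The derived tensor product exists. -/
theorem hasLTensorCx (E : CochainComplex (ModSite.Mod O) ℤ) : ModSite.HasLTensorCx E := by
  let F := ModSite.tensorCxQ E
  let W := quasiIso (ModSite.Mod O) (ComplexShape.up ℤ)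
  haveI := LeftDeriv.isLeftDerivedFunctor F W DerivedCategory.Q (Groth.L04.SiteLTensor.RF O) (Groth.L04.SiteLTensor.rF O)
    (fun X => (HomologicalComplex.mem_quasiIso_iff _).2 (Groth.L04.SiteLTensor.quasiIso_rF O X))
    (Groth.L04.SiteLTensor.inverts E) (fun X =>
      haveI := Groth.L04.SiteLTensor.quasiIso_rF O ((Groth.L04.SiteLTensor.RF O).obj X)
      Groth.L04.SiteLTensor.isIso_map E _ (Groth.L04.SiteLTensor.isKFlat_RF O _) (Groth.L04.SiteLTensor.isKFlat_RF O _))
  exact Functor.HasLeftDerivedFunctor.mk' _ (LeftDeriv.α F W DerivedCategory.Q (Groth.L04.SiteLTensor.RF O)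
    (Groth.L04.SiteLTensor.rF O) (Groth.L04.SiteLTensor.inverts E))

/-- The counit of the derived tensor product. -/
abbrev cnt (E : CochainComplex (ModSite.Mod O) ℤ) [ModSite.HasLTensorCx E] :
    DerivedCategory.Q ⋙ ModSite.LTensorCx E ⟶ flipT E ⋙ DerivedCategory.Q :=
  (ModSite.tensorCxQ E).totalLeftDerivedCounit DerivedCategory.Q (quasiIso (ModSite.Mod O) (ComplexShape.up ℤ))

theorem isIso_cnt (E : CochainComplex (ModSite.Mod O) ℤ) [ModSite.HasLTensorCx E]
    (P : CochainComplex (ModSite.Mod O) ℤ) (hP : ModSite.IsKFlat P) : IsIso ((cnt E).app P) :=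
  Groth.L04.SiteLTensor.isIso_counit E P hP

/-- When the fixed factor is K-flat the derived tensor product is computed by every complex. -/
theorem isIso_cnt_of_kflat (E : CochainComplex (ModSite.Mod O) ℤ) [ModSite.HasLTensorCx E] (hE : ModSite.IsKFlat E) :
    IsIso (cnt E) := by
  haveI : ∀ P, IsIso ((cnt E).app P) := fun P => by
    let r : (Groth.L04.SiteLTensor.RF O).obj P ⟶ P := (Groth.L04.SiteLTensor.rF O).app P
    haveI : QuasiIso r := Groth.L04.SiteLTensor.quasiIso_rF O P
    haveI := isIso_cnt E _ (Groth.L04.SiteLTensor.isKFlat_RF O P)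
    haveI : QuasiIso ((flipT E).map r) := quasiIso_of_kflat hE r
    haveI : IsIso (DerivedCategory.Q.map r) := (DerivedCategory.isIso_Q_map_iff_quasiIso _ _).2 inferInstance
    haveI : IsIso (DerivedCategory.Q.map ((flipT E).map r)) :=
      (DerivedCategory.isIso_Q_map_iff_quasiIso _ _).2 inferInstance
    have h := (cnt E).naturality r
    have h' : IsIso ((ModSite.LTensorCx E).map (DerivedCategory.Q.map r) ≫ (cnt E).app P) := by
      simp only [Functor.comp_map] at h
      rw [h]
      exact IsIso.comp_isIso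
    exact IsIso.of_isIso_comp_left ((ModSite.LTensorCx E).map (DerivedCategory.Q.map r)) _
  exact NatIso.isIso_of_isIso_app _

/-- Internal Hom out of a K-flat complex exists. -/
theorem hasRHom_of_kflat {E : CochainComplex (ModSite.Mod O) ℤ} (hE : ModSite.IsKFlat E) [ModSite.HasLTensorCx E] :
    DerComp.HasRHom E := by
  haveI : Groth.L10.KInjDerived.EnoughKInjectives (ModSite.Mod O) := enoughKInj
  haveI := isLeftAdjoint_flipT E
  let adj := Adjunction.ofIsLeftAdjoint (flipT E)
  haveI : (flipT E).Additive := Functor.additive_of_iso (flipIso E)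
  haveI := isIso_cnt_of_kflat E hE
  exact Groth.L29.DC.DerRight.isLeftAdjoint adj
    (fun P => exists_retraction E _ (fun n => (CochainComplex.mappingCone.snd (𝟙 P)).v n n (add_zero n))
      (fun n => CochainComplex.mappingCone.inr_f_snd_v (𝟙 P) n))
    (acyclic_flipT hE) (ModSite.LTensorCx E) (asIso (cnt E))

variable {E E' : CochainComplex (ModSite.Mod O) ℤ} [ModSite.HasLTensorCx E] [ModSite.HasLTensorCx E']

/-- Functoriality in the fixed factor. -/
def ltMap (g : E' ⟶ E) : ModSite.LTensorCx E' ⟶ ModSite.LTensorCx E :=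
  (ModSite.LTensorCx E).leftDerivedLift (cnt E) (quasiIso (ModSite.Mod O) (ComplexShape.up ℤ)) _
    (cnt E' ≫ Functor.whiskerRight ((ModSite.tensorCx O).flip.map g) DerivedCategory.Q)

theorem ltMap_fac (g : E' ⟶ E) (P : CochainComplex (ModSite.Mod O) ℤ) :
    (ltMap g).app (DerivedCategory.Q.obj P) ≫ (cnt E).app P =
      (cnt E').app P ≫ DerivedCategory.Q.map (((ModSite.tensorCx O).obj P).map g) :=
  Functor.leftDerived_fac_app (ModSite.LTensorCx E) _ (quasiIso (ModSite.Mod O) (ComplexShape.up ℤ)) _ _ P

theorem isIso_ltMap (g : E' ⟶ E) [QuasiIso g] : IsIso (ltMap g) := by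
  have hk : ∀ P, ModSite.IsKFlat P → IsIso ((ltMap g).app (DerivedCategory.Q.obj P)) := fun P hP => by
    haveI := isIso_cnt E P hP
    haveI := isIso_cnt E' P hP
    haveI : QuasiIso ((T P).map g) := by
      have h := quasiIso_of_kflat hP g
      have h2 : QuasiIso ((T P).map g ≫ (commIso E P).hom) := by
        rw [commIso_natural]; infer_instance
      exact quasiIso_of_comp_right ((T P).map g) (commIso E P).hom
    haveI : IsIso (DerivedCategory.Q.map (((ModSite.tensorCx O).obj P).map g)) :=
      (DerivedCategory.isIso_Q_map_iff_quasiIso _ _).2 ‹QuasiIso ((T P).map g)›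
    have hi : IsIso ((ltMap g).app (DerivedCategory.Q.obj P) ≫ (cnt E).app P) := by
      rw [ltMap_fac]; infer_instance
    exact (isIso_comp_right_iff _ ((cnt E).app P)).1 hi
  haveI : ∀ M, IsIso ((ltMap g).app M) := fun M => by
    let G := DerivedCategory.Q.objPreimage M
    haveI : IsIso (DerivedCategory.Q.map ((Groth.L04.SiteLTensor.rF O).app G)) :=
      (DerivedCategory.isIso_Q_map_iff_quasiIso _ _).2 (Groth.L04.SiteLTensor.quasiIso_rF O G)
    haveI := hk ((Groth.L04.SiteLTensor.RF O).obj G) (Groth.L04.SiteLTensor.isKFlat_RF O G)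
    exact (NatTrans.isIso_app_iff_of_iso (ltMap g)
      (asIso (DerivedCategory.Q.map ((Groth.L04.SiteLTensor.rF O).app G)) ≪≫ DerivedCategory.Q.objObjPreimageIso M)).1
      inferInstance
  exact NatIso.isIso_of_isIso_app _

omit [ModSite.HasLTensorCx E'] in
/-- Internal Hom out of any complex exists. -/
theorem hasRHom : DerComp.HasRHom E := by
  let E'' := (Groth.L04.SiteLTensor.RF O).obj E
  haveI := hasLTensorCx E''
  haveI : (ModSite.LTensorCx E'').IsLeftAdjoint := hasRHom_of_kflat (Groth.L04.SiteLTensor.isKFlat_RF O E)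
  haveI : QuasiIso (show E'' ⟶ E from (Groth.L04.SiteLTensor.rF O).app E) := Groth.L04.SiteLTensor.quasiIso_rF O E
  haveI := isIso_ltMap (show E'' ⟶ E from (Groth.L04.SiteLTensor.rF O).app E)
  exact ((Adjunction.ofIsLeftAdjoint (ModSite.LTensorCx E'')).ofNatIsoLeft
    (asIso (ltMap (show E'' ⟶ E from (Groth.L04.SiteLTensor.rF O).app E)))).isLeftAdjoint

/-- The derived tensor product only depends on the object of the derived category. -/
theorem nonempty_lt_iso (e : DerivedCategory.Q.obj E ≅ DerivedCategory.Q.obj E') :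
    Nonempty (ModSite.LTensorCx E ≅ ModSite.LTensorCx E') := by
  obtain ⟨R, s, hs, g, hg⟩ := DerivedCategory.right_fac e.hom
  haveI : IsIso (DerivedCategory.Q.map g) := by
    rw [show DerivedCategory.Q.map g = DerivedCategory.Q.map s ≫ e.hom by rw [hg, IsIso.hom_inv_id_assoc]]
    infer_instance
  haveI : QuasiIso s := (DerivedCategory.isIso_Q_map_iff_quasiIso _ s).1 inferInstance
  haveI : QuasiIso g := (DerivedCategory.isIso_Q_map_iff_quasiIso _ g).1 inferInstance
  haveI := hasLTensorCx R
  haveI := isIso_ltMap g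
  haveI := isIso_ltMap s
  exact ⟨(asIso (ltMap s)).symm ≪≫ asIso (ltMap g)⟩

end Groth.L09.RHomSite
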