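import Groth.Agent.L09.RHomSite.Vanish
import Groth.Agent.L09.RHomSite.Class
import Groth.Agent.L00.ConeTransfer

/-!
# The five term sequence of internal derived Hom along a mapping cone
-/

set_option autoImplicit false
set_option linter.style.haveILetI false
set_option linter.unusedSectionVars false
set_option backward.defeqAttrib.useBackward true
set_option backward.isDefEq.respectTransparency false
set_option backward.isDefEq.respectTransparency.types false

universe u

open CategoryTheory CategoryTheory.Limits HomologicalComplex CochainComplex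

attribute [local instance] HasDerivedCategory.standard

noncomputable section

namespace Groth.L09.RHomSite

open Groth.L00 Groth.L15.KFlatSite Groth.L29.DC

variable {C : Type u} [SmallCategory C] {J : GrothendieckTopology C} {O : Sheaf J CommRingCat.{u}}

/-- Internal derived Hom out of a complex, with the instances supplied. -/
def RH (E : CochainComplex (ModSite.Mod O) ℤ) : DerivedCategory (ModSite.Mod O) ⥤ DerivedCategory (ModSite.Mod O) :=
  haveI := hasLTensorCx E
  haveI := hasRHom (E := E)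
  DerComp.RHom E

theorem RH_eq (E : CochainComplex (ModSite.Mod O) ℤ) [ModSite.HasLTensorCx E] [DerComp.HasRHom E] :
    RH E = DerComp.RHom E := rfl

/-- Its degree `j` cohomology. -/
abbrev HR (E : CochainComplex (ModSite.Mod O) ℤ) (L : DerivedCategory (ModSite.Mod O)) (j : ℤ) : ModSite.Mod O :=
  (DerivedCategory.homologyFunctor (ModSite.Mod O) j).obj ((RH E).obj L)

theorem nonempty_RH_iso {E E' : CochainComplex (ModSite.Mod O) ℤ}
    (e : DerivedCategory.Q.obj E ≅ DerivedCategory.Q.obj E') : Nonempty (RH E ≅ RH E') := by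
  haveI := hasLTensorCx E
  haveI := hasLTensorCx E'
  haveI := hasRHom (E := E)
  haveI := hasRHom (E := E')
  obtain ⟨t⟩ := nonempty_lt_iso e
  exact ⟨((DerComp.RHomAdj E).ofNatIsoLeft t).rightAdjointUniq (DerComp.RHomAdj E')⟩

theorem exists_good (M : DerivedCategory (ModSite.Mod O)) :
    ∃ P : CochainComplex (ModSite.Mod O) ℤ, ModSite.IsKFlat P ∧ Nonempty (DerivedCategory.Q.obj P ≅ M) := by
  let G := DerivedCategory.Q.objPreimage M
  haveI : IsIso (DerivedCategory.Q.map ((Groth.L04.SiteLTensor.rF O).app G)) :=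
    (DerivedCategory.isIso_Q_map_iff_quasiIso _ _).2 (Groth.L04.SiteLTensor.quasiIso_rF O G)
  exact ⟨_, Groth.L04.SiteLTensor.isKFlat_RF O G,
    ⟨asIso (DerivedCategory.Q.map ((Groth.L04.SiteLTensor.rF O).app G)) ≪≫ DerivedCategory.Q.objObjPreimageIso M⟩⟩

section Split

variable (S : ShortComplex (CochainComplex (ModSite.Mod O) ℤ))

theorem flip_comp_zero (P : CochainComplex (ModSite.Mod O) ℤ) :
    ((ModSite.tensorCx O).flip.map S.f).app P ≫ ((ModSite.tensorCx O).flip.map S.g).app P = 0 := by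
  change (T P).map S.f ≫ (T P).map S.g = 0
  rw [← Functor.map_comp, S.zero, Functor.map_zero]

variable (σ : ∀ n, (S.map (HomologicalComplex.eval (ModSite.Mod O) (ComplexShape.up ℤ) n)).Splitting)

include σ in
theorem flip_shortExact (P : CochainComplex (ModSite.Mod O) ℤ) :
    (ShortComplex.mk (((ModSite.tensorCx O).flip.map S.f).app P)
      (((ModSite.tensorCx O).flip.map S.g).app P) (flip_comp_zero S P)).ShortExact :=
  BifExact.shortExact_T_of_splitting (ModSite.tensorBi O) P S σ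

end Split

theorem isZero_RH_zero (L : DerivedCategory (ModSite.Mod O)) :
    IsZero ((RH (HomologicalComplex.zero : CochainComplex (ModSite.Mod O) ℤ)).obj L) := by
  let Z : CochainComplex (ModSite.Mod O) ℤ := HomologicalComplex.zero
  haveI := hasLTensorCx Z
  haveI := hasRHom (E := Z)
  refine (IsZero.iff_id_eq_zero _).2 (((DerComp.RHomAdj Z).homEquiv _ L).symm.injective ?_)
  obtain ⟨P, hP, ⟨e⟩⟩ := exists_good ((DerComp.RHom Z).obj L)
  haveI := isIso_cnt Z P hP
  exact ((DerivedCategory.Q.map_isZero (((T P).map_isZero isZero_zero : IsZero ((T P).obj Z)))).of_iso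
    ((ModSite.LTensorCx Z).mapIso e.symm ≪≫ asIso ((cnt Z).app P))).eq_of_src _ _

/-- Shifting both arguments. -/
theorem nonempty_RH_shift (B : CochainComplex (ModSite.Mod O) ℤ) (L : DerivedCategory (ModSite.Mod O)) :
    Nonempty ((RH B).obj L ≅ (RH (B⟦(1 : ℤ)⟧)).obj (L⟦(1 : ℤ)⟧)) := by
  let S := mappingCone.triangleRotateShortComplex (𝟙 B)
  have hz : DerivedCategory.Q.obj S.X₂ ≅ DerivedCategory.Q.obj (HomologicalComplex.zero : CochainComplex (ModSite.Mod O) ℤ) := by
    haveI : QuasiIso (0 : mappingCone (𝟙 B) ⟶ (HomologicalComplex.zero : CochainComplex (ModSite.Mod O) ℤ)) :=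
      ⟨fun i => (quasiIsoAt_iff_exactAt _ _
        ((exactAt_iff_isZero_homology _ _).2 (ConeTransfer.acyclic_cone (𝟙 B) i))).2
        (ShortComplex.exact_of_isZero_X₂ _ ((HomologicalComplex.eval _ (ComplexShape.up ℤ) i).map_isZero isZero_zero))⟩
    exact asIso (DerivedCategory.Q.map (0 : mappingCone (𝟙 B) ⟶ HomologicalComplex.zero))
  obtain ⟨t⟩ := nonempty_RH_iso hz
  haveI := hasLTensorCx S.X₁
  haveI := hasLTensorCx S.X₂
  haveI := hasLTensorCx S.X₃
  haveI := hasRHom (E := S.X₁)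
  haveI := hasRHom (E := S.X₂)
  haveI := hasRHom (E := S.X₃)
  haveI : Groth.L10.KInjDerived.EnoughKInjectives (ModSite.Mod O) := enoughKInj
  exact FiveRight.iso_of_zero ((ModSite.tensorCx O).flip.map S.f) ((ModSite.tensorCx O).flip.map S.g)
    (flip_comp_zero S) (flip_shortExact S (mappingCone.triangleRotateShortComplexSplitting (𝟙 B)))
    (DerComp.RHomAdj S.X₁) (DerComp.RHomAdj S.X₂) (DerComp.RHomAdj S.X₃)
    (cnt S.X₁) (cnt S.X₂) (cnt S.X₃)
    ModSite.IsKFlat (fun P hP => isIso_cnt _ P hP) (fun P hP => isIso_cnt _ P hP)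
    (fun P hP => isIso_cnt _ P hP) exists_good (ltMap S.f) (ltMap S.g)
    (fun P => ltMap_fac S.f P) (fun P => ltMap_fac S.g P) (fun L => (isZero_RH_zero L).of_iso (t.app L)) L

/-- The five term sequence of a mapping cone. -/
theorem exists_five {R B : CochainComplex (ModSite.Mod O) ℤ} (g : R ⟶ B)
    (L : DerivedCategory (ModSite.Mod O)) (j : ℤ) :
    ∃ (f₀ : HR (R⟦(1 : ℤ)⟧) L j ⟶ HR (mappingCone g) L j) (f₁ : HR (mappingCone g) L j ⟶ HR B L j)
      (f₂ : HR B L j ⟶ HR (R⟦(1 : ℤ)⟧) (L⟦(1 : ℤ)⟧) j)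
      (f₃ : HR (R⟦(1 : ℤ)⟧) (L⟦(1 : ℤ)⟧) j ⟶ HR (mappingCone g) (L⟦(1 : ℤ)⟧) j)
      (w₁ : f₀ ≫ f₁ = 0) (w₂ : f₁ ≫ f₂ = 0) (w₃ : f₂ ≫ f₃ = 0),
      (ShortComplex.mk f₀ f₁ w₁).Exact ∧ (ShortComplex.mk f₁ f₂ w₂).Exact ∧ (ShortComplex.mk f₂ f₃ w₃).Exact := by
  let S := mappingCone.triangleRotateShortComplex g
  haveI := hasLTensorCx S.X₁
  haveI := hasLTensorCx S.X₂
  haveI := hasLTensorCx S.X₃
  haveI := hasRHom (E := S.X₁)
  haveI := hasRHom (E := S.X₂)
  haveI := hasRHom (E := S.X₃)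
  haveI : Groth.L10.KInjDerived.EnoughKInjectives (ModSite.Mod O) := enoughKInj
  let f := (ModSite.tensorCx O).flip.map S.f
  let g' := (ModSite.tensorCx O).flip.map S.g
  have hS := flip_shortExact S (mappingCone.triangleRotateShortComplexSplitting g)
  let a₁ := DerComp.RHomAdj S.X₁
  let a₂ := DerComp.RHomAdj S.X₂
  let a₃ := DerComp.RHomAdj S.X₃
  have h₁ := fun P hP => isIso_cnt S.X₁ P hP
  have h₂ := fun P hP => isIso_cnt S.X₂ P hP
  have h₃ := fun P hP => isIso_cnt S.X₃ P hP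
  let F := ltMap S.f
  let G := ltMap S.g
  have hF := fun P => ltMap_fac S.f P
  have hG := fun P => ltMap_fac S.g P
  haveI := FiveRight.additive_left a₁
  haveI := FiveRight.additive_left a₂
  haveI := FiveRight.additive_left a₃
  let a₂' := FiveRight.shiftAdj a₂
  let a₃' := FiveRight.shiftAdj a₃
  let θ := SESLift.θ f g' (flip_comp_zero S) hS (cnt S.X₁) (cnt S.X₃)
  let G' := Functor.whiskerRight G (SESLift.sN (ModSite.Mod O))
  have z := SESLift.comp_eq_zero f g' (flip_comp_zero S) hS (cnt S.X₁) (cnt S.X₂) (cnt S.X₃) ModSite.IsKFlat h₁ h₂ h₃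
    exists_good F G hF hG
  let m₀ := RHomExact.mate a₂ a₃ G L
  let m₁ := RHomExact.mate a₁ a₂ F L
  let m₂ := RHomExact.mate a₃' a₁ θ L
  let m₃ := RHomExact.mate a₂' a₃' G' L
  have w₁ : m₀ ≫ m₁ = 0 := RHomExact.mate_comp_mate a₁ a₂ a₃ F G (fun M => (z M).1) L
  have w₂ : m₁ ≫ m₂ = 0 := RHomExact.mate_comp_mate a₃' a₁ a₂ θ F (fun M => (z M).2.1) L
  have w₃ : m₂ ≫ m₃ = 0 := RHomExact.mate_comp_mate a₂' a₃' a₁ G' θ (fun M => (z M).2.2) L
  have e₁ := RHomExact.exact_H m₀ m₁ w₁ (fun M ξ => RHomExact.exact_hom a₁ a₂ a₃ F G L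
    (fun M x => SESLift.exactA f g' (flip_comp_zero S) hS (cnt S.X₁) (cnt S.X₂) (cnt S.X₃) ModSite.IsKFlat h₁ h₂
      exists_good F G hF hG M L x) ξ) j
  have e₂ := RHomExact.exact_H m₁ m₂ w₂ (fun M ξ => RHomExact.exact_hom a₃' a₁ a₂ θ F L
    (fun M x => SESLift.exactB f g' (flip_comp_zero S) hS (cnt S.X₁) (cnt S.X₂) (cnt S.X₃) ModSite.IsKFlat h₁ h₃
      exists_good F hF M L x) ξ) j
  have e₃ := RHomExact.exact_H m₂ m₃ w₃ (fun M ξ => RHomExact.exact_hom a₂' a₃' a₁ G' θ L
    (fun M x => SESLift.exactC f g' (flip_comp_zero S) hS (cnt S.X₁) (cnt S.X₂) (cnt S.X₃) ModSite.IsKFlat h₁ h₂ h₃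
      exists_good G hG M L x) ξ) j
  let H := DerivedCategory.homologyFunctor (ModSite.Mod O) j
  exact ⟨H.map m₀, H.map m₁, H.map m₂, H.map m₃, _, _, _, e₁, e₂, e₃⟩

end Groth.L09.RHomSite
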