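import Groth.Agent.L15.ExtZero.Exact
import Groth.Agent.L04.DerComp.CandIdeal
import Mathlib.CategoryTheory.Functor.FullyFaithful

/-!
# Extension by zero along a subobject of the final object
-/

set_option autoImplicit false
set_option linter.style.haveILetI false
set_option linter.unusedSectionVars false
set_option backward.isDefEq.respectTransparency false
set_option backward.isDefEq.respectTransparency.types false

universe u

open CategoryTheory CategoryTheory.Limits Opposite

noncomputable section

attribute [local instance] Classical.propDecidable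

namespace Groth.L09.RHomSite

open Groth.L15.ExtZero

variable {C : Type u} [SmallCategory C] [Quiver.IsThin C] {J : GrothendieckTopology C} (O : Sheaf J CommRingCat.{u})
  (U : C)

/-- Extending by zero and restricting gives nothing new. -/
theorem epi_unit (M : ModSite.Mod (O.over U)) : Epi ((ModSite.extZeroAdj O U).unit.app M) := by
  let adj := PresheafOfModules.sheafificationAdjunction (𝟙 (ModSite.ringSh O).obj)
  let N := (PresheafOfModules.sheafification.{u} (𝟙 (ModSite.ringSh O).obj)).obj (jVal M)
  let k : jVal M ⟶ N.val := adj.unit.app (jVal M)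
  let g : M ⟶ (ModSite.restr O U).obj N := back k
  let φ := ((ModSite.extZeroAdj O U).homEquiv _ _).symm g
  let η := (ModSite.extZeroAdj O U).unit.app M
  let l : jVal M ⟶ ((ModSite.extZero O U).obj M).val :=
    Groth.L15.ExtZero.lift U (under η) (under_isLin η)
  let ψ : N ⟶ (ModSite.extZero O U).obj M := (adj.homEquiv _ _).symm l
  have hkψ : k ≫ ψ.val = l := (adj.homEquiv_unit (jVal M) _ ψ).symm.trans (Equiv.apply_symm_apply _ l)
  have hgψ : g ≫ (ModSite.restr O U).map ψ = η := by
    refine SheafOfModules.Hom.ext (PresheafOfModules.hom_ext fun T => ModuleCat.hom_ext (LinearMap.ext fun x => ?_))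
    show ψ.val.app (op T.unop.left) ((back k).val.app T x) = η.val.app T x
    rw [back_app]
    refine Eq.trans ?_ (unlift_lift U (under η) (under_isLin η) T x)
    rw [show Groth.L15.ExtZero.lift U (under η) (under_isLin η) = k ≫ ψ.val from hkψ.symm, unlift_app, unlift_app]
    rfl
  have hφψ : φ ≫ ψ = 𝟙 _ := by
    apply ((ModSite.extZeroAdj O U).homEquiv _ _).injective
    rw [(ModSite.extZeroAdj O U).homEquiv_naturality_right, Equiv.apply_symm_apply,
      (ModSite.extZeroAdj O U).homEquiv_unit, CategoryTheory.Functor.map_id]
    exact hgψ.trans (Category.comp_id η).symm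
  haveI : IsSplitEpi ((ModSite.restr O U).map ψ) :=
    ⟨⟨⟨(ModSite.restr O U).map φ, ((ModSite.restr O U).map_comp φ ψ).symm.trans
      ((congrArg _ hφψ).trans ((ModSite.restr O U).map_id _))⟩⟩⟩
  haveI : Epi g := by
    refine ⟨fun {W'} a b hab => SheafOfModules.Hom.ext (PresheafOfModules.hom_ext fun T =>
      ModuleCat.hom_ext (LinearMap.ext fun y => ?_))⟩
    haveI : Presheaf.IsLocallySurjective J ((PresheafOfModules.toPresheaf _).map k) := by
      have e : (PresheafOfModules.toPresheaf _).map k = CategoryTheory.toSheafify J (jVal M).presheaf :=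
        PresheafOfModules.toPresheaf_map_sheafificationAdjunction_unit_app _ _
      rw [e]
      exact Presheaf.isLocallySurjective_toSheafify' (J := J) (jVal M).presheaf
    have hcov : Presheaf.imageSieve ((PresheafOfModules.toPresheaf _).map k) (U := T.unop.left) y ∈ J T.unop.left :=
      Presheaf.imageSieve_mem J ((PresheafOfModules.toPresheaf _).map k) (U := op T.unop.left) y
    have hcov' := J.overEquiv_symm_mem_over T.unop _ hcov
    refine Groth.L15.ExtSupp.sect_ext (O := O.over U) W' _ hcov' _ _ fun V m hm => ?_
    rw [Sieve.overEquiv_symm_iff] at hm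
    obtain ⟨z, hz⟩ := hm
    let Z : Tot U (val' M) (op V.left) := z
    have hZ : Z = DirectSum.of (fun t => Fib U (val' M) (op V.left) t) V.hom (Z V.hom) := by
      refine DirectSum.ext fun s => ?_
      obtain rfl : s = V.hom := Subsingleton.elim _ _
      exact (DirectSum.of_eq_same _ _).symm
    have hy : g.val.app (op V) (Z V.hom) = ((ModSite.restr O U).obj N).val.map m.op y := by
      refine Eq.trans ?_ hz
      show k.app (op V.left) _ = k.app (op V.left) Z
      exact congrArg (k.app (op V.left)) hZ.symm
    have h2 : a.val.app (op V) (g.val.app (op V) (Z V.hom)) = b.val.app (op V) (g.val.app (op V) (Z V.hom)) :=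
      congrArg (fun t : M ⟶ W' => t.val.app (op V) (Z V.hom)) hab
    rw [hy, PresheafOfModules.naturality_apply, PresheafOfModules.naturality_apply] at h2
    exact h2
  haveI : Epi ((ModSite.restr O U).map ψ) := IsSplitEpi.epi _
  have : Epi (g ≫ (ModSite.restr O U).map ψ) := epi_comp _ _
  rwa [hgψ] at this

instance isIso_unit (M : ModSite.Mod (O.over U)) : IsIso ((ModSite.extZeroAdj O U).unit.app M) := by
  haveI := unit_mono (O := O) (U := U) M
  haveI := epi_unit O U M
  exact isIso_of_mono_of_epi _

/-- The counit is invertible on extensions by zero. -/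
theorem isIso_counit_ext (M : ModSite.Mod (O.over U)) :
    IsIso ((ModSite.extZeroAdj O U).counit.app ((ModSite.extZero O U).obj M)) := by
  have h := (ModSite.extZeroAdj O U).left_triangle_components M
  haveI : IsIso ((ModSite.extZero O U).map ((ModSite.extZeroAdj O U).unit.app M) ≫
      (ModSite.extZeroAdj O U).counit.app ((ModSite.extZero O U).obj M)) := by rw [h]; infer_instance
  exact IsIso.of_isIso_comp_left ((ModSite.extZero O U).map ((ModSite.extZeroAdj O U).unit.app M)) _

/-- The counit is invertible on free modules below the subobject. -/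
theorem isIso_counit_free {W : C} (a : W ⟶ U) :
    IsIso ((ModSite.extZeroAdj O U).counit.app (ModSite.freeOn O W)) :=
  haveI := isIso_counit_ext O U (ModSite.freeOn (O.over U) (Over.mk a))
  (NatTrans.isIso_app_iff_of_iso (ModSite.extZeroAdj O U).counit
    (Groth.L04.DerComp.extZeroFreeIso O U (Over.mk a))).1 inferInstance

/-- The counit is invertible after restriction. -/
theorem isIso_restr_counit (N : ModSite.Mod O) :
    IsIso ((ModSite.restr O U).map ((ModSite.extZeroAdj O U).counit.app N)) := by
  have h := (ModSite.extZeroAdj O U).right_triangle_components N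
  haveI : IsIso ((ModSite.extZeroAdj O U).unit.app ((ModSite.restr O U).obj N) ≫
      (ModSite.restr O U).map ((ModSite.extZeroAdj O U).counit.app N)) := by rw [h]; infer_instance
  exact IsIso.of_isIso_comp_left ((ModSite.extZeroAdj O U).unit.app ((ModSite.restr O U).obj N)) _

end Groth.L09.RHomSite
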