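import Groth.Agent.L09.RHomSite.Exist
import Groth.Agent.L09.RHomSite.Free
import Groth.Agent.L04.DerComp.AwayRlim
import Groth.Agent.L04.DerComp.CandIdeal
import Groth.Agent.L15.ModTensor.Projection
import Groth.Agent.L29.DCoh.FiveRight
import Groth.Prelude.Def_SiteCmp
import Mathlib.Algebra.Homology.DerivedCategory.TStructure
import Mathlib.Algebra.Homology.BifunctorShift

/-!
# Vanishing of internal derived Hom over a subobject
-/

set_option autoImplicit false
set_option linter.style.haveILetI false
set_option linter.unusedSectionVars false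
set_option backward.defeqAttrib.useBackward true
set_option backward.isDefEq.respectTransparency false
set_option backward.isDefEq.respectTransparency.types false

universe u

open CategoryTheory CategoryTheory.Limits CategoryTheory.Pretriangulated HomologicalComplex Opposite

attribute [local instance] HasDerivedCategory.standard

noncomputable section

namespace Groth.L09.RHomSite

open Groth.L15.ModTensor Groth.L15.KFlatSite

variable {C : Type u} [SmallCategory C] [Quiver.IsThin C] {J : GrothendieckTopology C} {O : Sheaf J CommRingCat.{u}}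

variable (O) in
/-- The generators of the derived category. -/
abbrev gen (W : C) (k : ℤ) : DerivedCategory (ModSite.Mod O) :=
  ((DerivedCategory.singleFunctor (ModSite.Mod O) 0).obj (ModSite.freeOn O W))⟦k⟧

variable (O) in
/-- The complexes of the generators. -/
abbrev genCx (W : C) (k : ℤ) : CochainComplex (ModSite.Mod O) ℤ :=
  ((single (ModSite.Mod O) (ComplexShape.up ℤ) 0).obj (ModSite.freeOn O W))⟦k⟧

theorem isKFlat_genCx (W : C) (k : ℤ) : ModSite.IsKFlat (genCx O W k) :=
  Groth.L15.KFlatSite.shift _ k (single₀ _ (isFlat_freeOn O W))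

variable (O) in
/-- The generators as complexes. -/
def genIso (W : C) (k : ℤ) : DerivedCategory.Q.obj (genCx O W k) ≅ gen O W k :=
  (DerivedCategory.Q.commShiftIso k).app _ ≪≫ (CategoryTheory.shiftFunctor _ k).mapIso
    ((DerivedCategory.singleFunctorIsoCompQ (ModSite.Mod O) 0).app (ModSite.freeOn O W)).symm

theorem isLE_gen (W : C) (k : ℤ) : (gen O W k).IsLE (-k) :=
  DerivedCategory.TStructure.t.isLE_shift _ 0 k (-k) (by omega)

variable (U : C)

/-- Vanishing over `U`. -/
abbrev ZU (M : ModSite.Mod O) : Prop := IsZero ((ModSite.restr O U).obj M)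

theorem isZero_restr_of_sections {M : ModSite.Mod O}
    (h : ∀ (W : Over U) (x : ModSite.sect M W.left), x = 0) : ZU U M := by
  refine (IsZero.iff_id_eq_zero _).2 (SheafOfModules.Hom.ext (PresheafOfModules.hom_ext fun T =>
    ModuleCat.hom_ext (LinearMap.ext fun x => ?_)))
  exact h T.unop x

theorem zu_of_le {W : C} (a : W ⟶ U) {M : ModSite.Mod O} (h : ZU U M) : ZU W M := by
  refine isZero_restr_of_sections W fun V x => ?_
  have h0 := congrArg (fun t : (ModSite.restr O U).obj M ⟶ (ModSite.restr O U).obj M =>
    t.val.app (op (Over.mk (V.hom ≫ a))) x) ((IsZero.iff_id_eq_zero _).1 h)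
  exact h0

open Groth.L10.KInjDerived in
/-- Cohomology vanishes over `U` when nothing maps to it from the generators below `U`. -/
theorem zu_homology (X : DerivedCategory (ModSite.Mod O)) (i : ℤ)
    (h : ∀ (W : C), (W ⟶ U) → Subsingleton (gen O W (-i) ⟶ X)) :
    ZU U ((DerivedCategory.homologyFunctor (ModSite.Mod O) i).obj X) := by
  haveI : EnoughKInjectives (ModSite.Mod O) := enoughKInj
  obtain ⟨I, f, hI, hf⟩ := EnoughKInjectives.exists_res (DerivedCategory.Q.objPreimage X)
  let e : DerivedCategory.Q.obj I ≅ X :=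
    (asIso (DerivedCategory.Q.map f)).symm ≪≫ DerivedCategory.Q.objObjPreimageIso X
  refine IsZero.of_iso ?_ ((ModSite.restr O U).mapIso ((DerivedCategory.homologyFunctor _ i).mapIso e.symm ≪≫
    (DerivedCategory.homologyFunctorFactors (ModSite.Mod O) i).app I))
  have hπ : ∀ (W : C) (_ : W ⟶ U) (a : ModSite.freeOn O W ⟶ I.cycles i), a ≫ I.homologyπ i = 0 := by
    intro W a0 a
    let c : ModSite.freeOn O W ⟶ I.X i := a ≫ I.iCycles i
    let x : (single (ModSite.Mod O) (ComplexShape.up ℤ) i).obj (ModSite.freeOn O W) ⟶ I :=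
      mkHomFromSingle c (fun j _ => by simp [c])
    have hx : DerivedCategory.Q.map x = 0 := by
      let d : DerivedCategory.Q.obj ((single (ModSite.Mod O) (ComplexShape.up ℤ) i).obj (ModSite.freeOn O W)) ≅
          gen O W (-i) :=
        ((DerivedCategory.singleFunctorIsoCompQ (ModSite.Mod O) i).app _).symm ≪≫
          (((DerivedCategory.singleFunctors (ModSite.Mod O)).shiftIso (-i) i 0 (by omega)).app _).symm
      rw [← cancel_epi d.inv, comp_zero, ← cancel_mono e.hom, zero_comp]
      exact (h W a0).elim _ _
    obtain ⟨H⟩ : Nonempty (Homotopy x 0) := by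
      refine ⟨HomotopyCategory.homotopyOfEq _ _
        ((qh_bijective _ ⟨(HomotopyCategory.quotient _ _).obj I, hI⟩).injective ?_)⟩
      rw [← cancel_epi ((DerivedCategory.quotientCompQhIso _).inv.app _)]
      have h1 := (DerivedCategory.quotientCompQhIso _).inv.naturality x
      rw [hx, zero_comp] at h1
      refine h1.symm.trans ?_
      simp
    have hm := H.comm i
    rw [dNext_eq _ (show (ComplexShape.up ℤ).Rel i (i + 1) from rfl),
      prevD_eq _ (show (ComplexShape.up ℤ).Rel (i - 1) i by simp)] at hm
    simp only [x, mkHomFromSingle_f, zero_f, add_zero, single_obj_d, zero_comp, zero_add] at hm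
    have hk : a = ((singleObjXSelf (ComplexShape.up ℤ) i (ModSite.freeOn O W)).inv ≫ H.hom i (i - 1)) ≫
        I.toCycles (i - 1) i := by
      rw [← cancel_mono (I.iCycles i), Category.assoc, Category.assoc, toCycles_i, ← hm, Iso.inv_hom_id_assoc]
    rw [hk, Category.assoc, toCycles_comp_homologyπ, comp_zero]
  haveI : Epi ((ModSite.restr O U).map (I.homologyπ i)) := inferInstance
  refine IsZero.of_epi_eq_zero ((ModSite.restr O U).map (I.homologyπ i))
    (SheafOfModules.Hom.ext (PresheafOfModules.hom_ext fun T => ModuleCat.hom_ext (LinearMap.ext fun z => ?_)))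
  let secM := Groth.L04.DerComp.secM O T.unop.left
  let z' : ModSite.sect (I.cycles i) T.unop.left := z
  show (I.homologyπ i).val.app (op T.unop.left) z' = 0
  rw [← (secM (I.cycles i)).apply_symm_apply z', ← Groth.L04.DerComp.secM_comp, hπ _ T.unop.hom,
    Groth.L04.DerComp.secM_zero]

theorem zu_homology_of_isLE {X : DerivedCategory (ModSite.Mod O)} {n : ℤ} (h : X.IsGE n) {i : ℤ} (hi : i < n) :
    ZU U ((DerivedCategory.homologyFunctor (ModSite.Mod O) i).obj X) :=
  (ModSite.restr O U).map_isZero (DerivedCategory.isZero_of_isGE X n i hi)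

variable (E : CochainComplex (ModSite.Mod O) ℤ) [ModSite.HasLTensorCx E]

/-- The derived tensor product at a generator. -/
def ltGenIso (W : C) (k : ℤ) : (ModSite.LTensorCx E).obj (gen O W k) ≅
    DerivedCategory.Q.obj ((((tL (ModSite.freeOn O W)).mapHomologicalComplex (ComplexShape.up ℤ)).obj E)⟦k⟧) :=
  (ModSite.LTensorCx E).mapIso (genIso O W k).symm ≪≫
    Groth.L04.SiteLTensor.objIso E (genCx O W k) (isKFlat_genCx W k) ≪≫
    DerivedCategory.Q.mapIso (CochainComplex.mapBifunctorShift₁Iso _ E (ModSite.tensorBi O) k ≪≫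
      (CategoryTheory.shiftFunctor _ k).mapIso
        (Groth.L00.SingleTotal.iso (ModSite.tensorBi O) (ModSite.freeOn O W) E).symm)

theorem preservesHomology_tL_free (W : C) : (tL (ModSite.freeOn O W)).PreservesHomology := by
  haveI := (isFlat_freeOn O W).1
  haveI := (isFlat_freeOn O W).2
  haveI : PreservesFiniteLimits (tL (ModSite.freeOn O W)) := preservesFiniteLimits_of_natIso (braidIso _).symm
  haveI : PreservesFiniteColimits (tL (ModSite.freeOn O W)) := preservesFiniteColimits_of_natIso (braidIso _).symm
  infer_instance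

theorem isLE_ltGen {c : ℤ} (hE : (DerivedCategory.Q.obj E).IsLE c) (W : C) (k : ℤ) :
    ((ModSite.LTensorCx E).obj (gen O W k)).IsLE (c - k) := by
  haveI := preservesHomology_tL_free (O := O) W
  haveI : E.IsLE c := (DerivedCategory.isLE_Q_obj_iff E c).1 hE
  haveI : CochainComplex.IsLE (((tL (ModSite.freeOn O W)).mapHomologicalComplex (ComplexShape.up ℤ)).obj E) c := by
    rw [CochainComplex.isLE_iff]
    intro i hi
    rw [exactAt_iff_isZero_homology]
    exact ((tL (ModSite.freeOn O W)).map_isZero
      ((exactAt_iff_isZero_homology _ _).1 (CochainComplex.exactAt_of_isLE E c i hi))).of_iso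
      ((E.sc i).mapHomologyIso (tL (ModSite.freeOn O W)))
  haveI h0 : (DerivedCategory.Q.obj (((tL (ModSite.freeOn O W)).mapHomologicalComplex (ComplexShape.up ℤ)).obj E)).IsLE c :=
    (DerivedCategory.isLE_Q_obj_iff _ c).2 inferInstance
  haveI := DerivedCategory.TStructure.t.isLE_shift
    (DerivedCategory.Q.obj (((tL (ModSite.freeOn O W)).mapHomologicalComplex (ComplexShape.up ℤ)).obj E)) c k (c - k) (by omega)
  haveI : DerivedCategory.TStructure.t.IsLE ((DerivedCategory.Q ⋙ CategoryTheory.shiftFunctor _ k).obj
      (((tL (ModSite.freeOn O W)).mapHomologicalComplex (ComplexShape.up ℤ)).obj E)) (c - k) := this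
  exact DerivedCategory.TStructure.t.isLE_of_iso ((ltGenIso E W k) ≪≫ (DerivedCategory.Q.commShiftIso k).app _).symm _

variable [DerComp.HasRHom E]

theorem additive_LTensorCx : (ModSite.LTensorCx E).Additive :=
  Groth.L29.DC.FiveRight.additive_left (DerComp.RHomAdj E)

theorem subsingleton_gen_RHom (L : DerivedCategory (ModSite.Mod O)) (W : C) (k : ℤ)
    (h : Subsingleton ((ModSite.LTensorCx E).obj (gen O W k) ⟶ L)) :
    Subsingleton (gen O W k ⟶ (DerComp.RHom E).obj L) :=
  ((DerComp.RHomAdj E).homEquiv _ _).symm.subsingleton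

/-- Internal Hom of a bounded above object into a bounded below one is bounded below, on cohomology over `U`. -/
theorem zu_RHom_of_bounds {c r : ℤ} (hE : (DerivedCategory.Q.obj E).IsLE c) (L : DerivedCategory (ModSite.Mod O))
    (hL : L.IsGE r) {i : ℤ} (hi : i + c < r) :
    ZU U ((DerivedCategory.homologyFunctor (ModSite.Mod O) i).obj ((DerComp.RHom E).obj L)) :=
  zu_homology U _ i fun W _ => subsingleton_gen_RHom E L W _ ⟨fun a b => by
    haveI := isLE_ltGen E hE W (-i)
    rw [DerivedCategory.TStructure.t.zero_of_isLE_of_isGE a (c - -i) r (by omega) inferInstance hL,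
      DerivedCategory.TStructure.t.zero_of_isLE_of_isGE b (c - -i) r (by omega) inferInstance hL]⟩

/-- Internal Hom out of a complex vanishing over `U` vanishes over `U`. -/
theorem zu_RHom_of_zu (hE : ∀ j, ZU U (E.homology j)) (L : DerivedCategory (ModSite.Mod O)) (i : ℤ) :
    ZU U ((DerivedCategory.homologyFunctor (ModSite.Mod O) i).obj ((DerComp.RHom E).obj L)) := by
  refine zu_homology U _ i fun W a => subsingleton_gen_RHom E L W _ ?_
  let T := tL (ModSite.freeOn O W)
  haveI : T.PreservesHomology := preservesHomology_tL_free (O := O) W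
  have hac : ((T.mapHomologicalComplex (ComplexShape.up ℤ)).obj E).Acyclic := fun j =>
    (exactAt_iff_isZero_homology _ _).2 (((((ModSite.extZero O W).map_isZero (zu_of_le U a (hE j))).of_iso
      ((freeOnTensorIso O W).app (E.homology j))) : IsZero (T.obj (E.homology j))).of_iso ((E.sc j).mapHomologyIso T))
  haveI : QuasiIso (0 : (T.mapHomologicalComplex (ComplexShape.up ℤ)).obj E ⟶
      (HomologicalComplex.zero : CochainComplex (ModSite.Mod O) ℤ)) :=
    ⟨fun j => (quasiIsoAt_iff_exactAt _ _ (hac j)).2 (ShortComplex.exact_of_isZero_X₂ _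
      ((HomologicalComplex.eval _ (ComplexShape.up ℤ) j).map_isZero isZero_zero))⟩
  have hz : IsZero (DerivedCategory.Q.obj ((T.mapHomologicalComplex (ComplexShape.up ℤ)).obj E)) :=
    (DerivedCategory.Q.map_isZero isZero_zero).of_iso
      (asIso (DerivedCategory.Q.map (0 : (T.mapHomologicalComplex (ComplexShape.up ℤ)).obj E ⟶ zero)))
  exact ⟨fun x y => (((CategoryTheory.shiftFunctor _ (-i)).map_isZero hz).of_iso
    (ltGenIso E W (-i) ≪≫ (DerivedCategory.Q.commShiftIso (-i)).app _)).eq_of_src x y⟩

end Groth.L09.RHomSite
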